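/-
Data and kernel checks for the automorphisms of the explicit `Fi₂₄′`. Generated by tools/fischer/o24/genchk.py.
-/
import Mathlib
import Cfsg.Agent.Lib.Fischer.M24.A37.Chk
import Cfsg.Agent.Lib.Fischer.M24.E.InvolAll

set_option autoImplicit false
set_option maxRecDepth 100000
set_option Elab.async false

namespace Cfsg.Agent.Lib.Fischer.M24.O24

open Cfsg Cfsg.Agent.Lib.Compute.BitNet Cfsg.Agent.Lib.Fischer.M24.Net Cfsg.Agent.Lib.Fischer.M24.Explicit
open Cfsg.Agent.Lib.Fischer.M24.A37 Cfsg.Agent.Lib.Fischer.M24.InvolAll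

/-- The word of the transposition of a label, from the word moving `l` to the label. -/
def tW (v : List ℕ) : List ℕ := v ++ 10 :: v.reverse

/-- The word moving `l` to a label of the data. -/
def vL (n : ℕ) : List ℕ :=
  match n with
  | 0 => [7, 6, 5, 4, 3, 2, 1, 0, 11, 10, 8, 3, 4, 2, 3, 8, 5, 6, 4, 5, 3, 4, 2, 3, 8, 7, 6, 5, 4, 3, 2, 1, 0, 11]
  | 196 => [11, 10, 8, 9, 2, 3, 8, 4, 5, 3, 4, 2, 3, 8, 6, 5, 4, 3, 2, 1, 0, 11]
  | 632 => [0, 11, 10, 8, 9, 5, 3, 4, 2, 3, 8, 6, 5, 4, 3, 2, 1, 0, 11]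
  | 2138 => [11, 10, 3, 8, 5, 4, 3, 2, 1, 0, 11]
  | 2146 => [11, 10, 8, 6, 5, 4, 3, 2, 1, 0, 11]
  | 2524 => [11, 0, 1, 2, 3, 8, 4, 3, 2, 1, 0, 11]
  | 3153 => [1, 0, 11, 10, 3, 8, 4, 3, 2, 1, 0, 11]
  | 3168 => [1, 0, 11, 10, 6, 5, 4, 3, 2, 1, 0, 11]
  | 3321 => [11, 9, 0, 1, 2, 3, 8, 4, 3, 2, 1, 0, 11]
  | 3841 => [11, 10, 9, 8, 5, 4, 3, 2, 1, 0, 11]
  | 3842 => [11, 10, 9, 3, 8, 4, 3, 2, 1, 0, 11]
  | 4133 => [1, 0, 11, 10, 5, 4, 3, 2, 1, 0, 11]
  | 5259 => [1, 0, 11, 10, 4, 3, 2, 1, 0, 11]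
  | 6522 => [2, 1, 0, 11, 10, 8, 3, 2, 1, 0, 11]
  | 6525 => [1, 0, 11, 10, 3, 2, 1, 0, 11]
  | 6796 => [11, 9, 8, 3, 4, 2, 3, 8, 9, 3, 8, 4, 5, 3, 4, 0, 1, 2, 3, 8, 6, 5, 4, 3, 2, 1, 0, 11]
  | 7159 => [11, 10, 9, 8, 3, 4, 2, 3, 8, 9, 5, 4, 1, 2, 3, 8, 6, 5, 4, 3, 2, 1, 0, 11]
  | 8001 => [3, 2, 1, 0, 11, 10, 4, 3, 2, 1, 0, 11]
  | 8003 => [1, 0, 11, 10, 2, 1, 0, 11]
  | 11589 => [11, 10, 0, 11]
  | 14202 => [1, 0, 11, 9, 8, 2, 3, 4, 1, 2, 3, 8, 9, 3, 8, 4, 5, 3, 4, 0, 1, 2, 3, 8, 6, 5, 4, 3, 2, 1, 0, 11]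
  | 15821 => [11, 1, 2, 3, 8, 9, 4, 3, 8, 2, 3, 4, 1, 2, 3, 8, 9, 5, 4, 0, 1, 2, 3, 8, 6, 5, 4, 3, 2, 1, 0, 11]
  | 31700 => [7, 6, 5, 4, 3, 2, 1, 0, 11]
  | 31701 => [10, 7, 6, 5, 4, 3, 2, 1, 0, 11]
  | 36462 => [8, 3, 4, 2, 3, 8, 5, 6, 4, 5, 3, 4, 2, 3, 8, 7, 6, 5, 4, 3, 2, 1, 0, 11]
  | 36463 => [10, 8, 3, 4, 2, 3, 8, 5, 6, 4, 5, 3, 4, 2, 3, 8, 7, 6, 5, 4, 3, 2, 1, 0, 11]
  | _ => []

/-- The word of the transposition of a label of the data. -/
def wT (n : ℕ) : List ℕ := tW (vL n)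

/-- A label of the data: commutes with `l` and the label `0`. -/
noncomputable def okD (n : ℕ) : Bool :=
  Nat.beq (ptW (vL n) 31671) n && Nat.beq (ptW (wT n) 31671) 31671 && Nat.beq (ptW (wT n) 0) 0

/-- The labels of the data in the centralizer. -/
def seedL : List ℕ := [196, 632, 2138, 2146, 2524, 3153, 3168, 3321, 3841, 3842, 4133, 5259, 6522, 6525, 6796, 7159, 8001, 8003, 11589, 14202, 15821]
theorem seed_ok : ∀ n ∈ seedL, okD n = true := by decide +kernel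

/-- The labels of the seven fixed points. -/
def Sn : List ℕ := [31671, 0, 11589, 31700, 36463, 31701, 36462]

theorem S_words : ∀ n ∈ Sn, Nat.beq (ptW (vL n) 31671) n = true := by decide +kernel

def Pl : List ℕ := [8003, 6525, 5259, 4133, 2524, 3168, 3321]

/-- These commute with `e` and `e₁`. -/
theorem P_comm : ∀ n ∈ Pl, Nat.beq (ptW (wT n) 31700) 31700 = true ∧ Nat.beq (ptW (wT n) 11589) 11589 = true := by decide +kernel

def Prs : List (ℕ × ℕ) := [(8003, 6525), (5259, 8003), (4133, 8003), (2524, 4133), (3168, 8003), (3321, 4133)]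

/-- The pairs do not commute. -/
theorem P_ncomm : ∀ q ∈ Prs, Nat.beq (ptW (wT q.1) q.2) q.2 = false := by decide +kernel

/-- The labels commuting with all of them. -/
theorem P_cap : (Nat.land (mW' (vL 8003)) (Nat.land (mW' (vL 6525)) (Nat.land (mW' (vL 5259)) (Nat.land (mW' (vL 4133)) (Nat.land (mW' (vL 2524)) (Nat.land (mW' (vL 3168)) (mW' (vL 3321)))))))) = maskL Sn := by decide +kernel

def tauW : List ℕ := [10] ++ wT 0
def sW : List ℕ := wT 31701 ++ wT 36462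

/-- The action of `τ` and `s` on the seven labels. -/
def tauT : List ℕ := [31671, 0, 11589, 36463, 31700, 36462, 31701]
def sT : List ℕ := [0, 31671, 11589, 36463, 31700, 31701, 36462]
theorem tau_act : ∀ i ∈ List.range 7, Nat.beq (ptW tauW (Sn.getD i 0)) (tauT.getD i 0) = true := by decide +kernel
theorem s_act : ∀ i ∈ List.range 7, Nat.beq (ptW sW (Sn.getD i 0)) (sT.getD i 0) = true := by decide +kernel

/-- The commutation of the seven labels. -/
def cmT : List (List Bool) := [[true, true, true, false, false, false, false], [true, true, true, false, false, false, false], [true, true, true, true, true, true, true], [false, false, true, true, true, false, false], [false, false, true, true, true, false, false], [false, false, true, false, false, true, true], [false, false, true, false, false, true, true]]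
theorem cm_ok : ∀ i ∈ List.range 7, ∀ j ∈ List.range 7,
    Nat.beq (ptW (wT (Sn.getD i 0)) (Sn.getD j 0)) (Sn.getD j 0) = (cmT.getD i []).getD j false := by decide +kernel

def octL : List ℕ := [7159, 14202, 11589, 3153, 8001, 6796, 15821]
def octW : List ℕ := [10] ++ (octL.map wT).flatten
/-- The octad. -/
theorem oct_ok : ∀ x ∈ gL, Nat.beq (ptW octW (lbl x)) (lbl x) = true := by decide +kernel

/-- The steps: `t r` moves the label to the next one. -/
def steps : List (ℕ × ℕ × ℕ) := [(31700, 196, 49635), (2146, 49635, 41544), (3841, 41544, 34078), (31700, 34078, 425), (3842, 425, 1570), (2146, 1570, 8006), (31700, 632, 52894), (2138, 52894, 121423), (2146, 121423, 61206), (31700, 61206, 31749), (6522, 31749, 31707), (3841, 31707, 31673)]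
theorem steps_ok : ∀ q ∈ steps, Nat.beq (ptW (wT q.1) q.2.1) q.2.2 = true := by decide +kernel
theorem steps_w : ∀ q ∈ steps, Nat.beq (ptW (vL q.1) 31671) q.1 = true := by decide +kernel

end Cfsg.Agent.Lib.Fischer.M24.O24
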