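/-
Automorphisms of the explicit `Fi₂₄′`: products of transpositions, the centralizer of a product of two transpositions.
-/
import Mathlib
import Cfsg.Agent.Lib.Fischer.M24.O24.Chk
import Cfsg.Agent.Lib.Fischer.M24.W2.Tower
import Cfsg.Agent.Lib.Fischer.M24.E.Simple
import Cfsg.Agent.Lib.Compute.OutCert

set_option autoImplicit false
set_option maxRecDepth 100000

namespace Cfsg.Agent.Lib.Fischer.M24.O24

open Cfsg Cfsg.Agent.Lib.Compute.BitNet Cfsg.Agent.Lib.Fischer.M24.Net Cfsg.Agent.Lib.Fischer.M24.Explicit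
open Cfsg.Agent.Lib.Fischer.M24.A37 Cfsg.Agent.Lib.Fischer.M24.InvolAll Cfsg.Agent.Lib.Fischer.M24.W2
open Cfsg.Agent.Lib.Fischer.Basic Cfsg.Agent.Lib.Fischer.Local
open Cfsg.Agent.Lib.Fischer.M22.Explicit (PM simple0 center0 card0)
open Cfsg.Agent.Lib.Compute.OutCert

/-! ### Parity -/

theorem t_not_F2 (p : Fin NN) : t p ∉ F2 := by
  intro h
  obtain ⟨g, hg⟩ := conj_trans2 (t p) (t_mem p) z2 z2_mem
  exact z2_not_F2 (hg ▸ F2_normal.conj_mem _ h g)

theorem D2_not_F2 {x : G2} (hx : x ∈ D2) : x ∉ F2 := by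
  obtain ⟨p, rfl⟩ := mem_D2.1 hx
  exact t_not_F2 p

theorem mul_F2 {x y : G2} (hx : x ∉ F2) (hy : y ∉ F2) : x * y ∈ F2 :=
  (Subgroup.mul_mem_iff_of_index_two F2_index).2 (iff_of_false hx hy)

theorem odd_mem_F2 {x : G2} {k : ℕ} (hk : Odd k) (h : x ^ k = 1) : x ∈ F2 := by
  by_contra hx
  obtain ⟨m, rfl⟩ := hk
  have h2 : x * x ∈ F2 := mul_F2 hx hx
  have h3 : x ^ (2 * m) ∈ F2 := by
    rw [pow_mul, pow_two]
    exact pow_mem h2 m
  have h5 : x ^ (2 * m) * x ∈ F2 := by
    rw [← pow_succ, h]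
    exact one_mem _
  exact hx ((Subgroup.mul_mem_cancel_left _ h3).1 h5)

theorem list_parity (l : List G2) (h : ∀ a ∈ l, a ∈ D2) : l.prod ∈ F2 ↔ Even l.length := by
  induction l with
  | nil => simp [one_mem]
  | cons y l ih =>
    have hy := D2_not_F2 (h y (by simp))
    have ih' := ih (fun a ha => h a (by simp [ha]))
    rw [List.prod_cons, List.length_cons, Subgroup.mul_mem_iff_of_index_two F2_index, Nat.even_add_one, ih']
    tauto

theorem PM_even {m : ℕ} {x : G2} (h : PM D2 m x) (hx : x ∈ F2) : Even m := by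
  obtain ⟨l, -, rfl, h1, -, rfl⟩ := h
  exact (list_parity l h1).1 hx

/-! ### Products of two commuting transpositions -/

/-- The two factors are determined. -/
theorem pair_uniq {u v x y : G2} (hu : u ∈ D2) (hv : v ∈ D2) (hx : x ∈ D2) (hy : y ∈ D2) (c2 : Commute x y) (n : x ≠ y)
    (c1 : Commute u v) (e : u * v = x * y) : (u = x ∧ v = y) ∨ (u = y ∧ v = x) := by
  have h1 : Commute (x * y) u := by
    rw [← e]
    exact (Commute.refl u).mul_left c1.symm
  have h2 := comm_first2 hx hy hu c2 n h1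
  have h3 : Commute (y * x) u := by
    rw [← c2.eq]
    exact h1
  have h4 := comm_first2 hy hx hu c2.symm n.symm h3
  by_cases hux : u = x
  · subst hux
    exact Or.inl ⟨rfl, mul_left_cancel e⟩
  by_cases huy : u = y
  · subst huy
    refine Or.inr ⟨rfl, ?_⟩
    have : u * v = u * x := by rw [e, c2.eq]
    exact mul_left_cancel this
  · exfalso
    have hs := tt2.sq u hu
    have h5 : v = u * x * y := by
      calc v = u * u * v := by rw [hs, one_mul]
        _ = u * (u * v) := by group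
        _ = u * (x * y) := by rw [e]
        _ = u * x * y := by group
    have h6 : PM D2 3 v := by
      rw [h5]
      exact PM_three2 hu hx hy h2.symm h4.symm c2 hux huy n
    have h7 := PM_unique2 (by norm_num) (by norm_num) (by norm_num) (by norm_num) (PM_single2 hv) h6
    omega

/-- A transposition commuting with a product of two non-commuting ones commutes with both. -/
theorem comm_of_three {u w x : G2} (hu : u ∈ D2) (hw : w ∈ D2) (hx : x ∈ D2) (hnc : ¬ Commute u w)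
    (h : Commute (u * w) x) : Commute u x ∧ Commute w x := by
  have su := tt2.sq u hu
  have sw := tt2.sq w hw
  have key : w * x * w = u * x * u := by
    have h1 : u * w * x = x * (u * w) := h
    calc w * x * w = (u * u) * w * x * w := by rw [su, one_mul]
      _ = u * (u * w * x) * w := by group
      _ = u * (x * (u * w)) * w := by rw [h1]
      _ = u * x * u * (w * w) := by group
      _ = u * x * u := by rw [sw, mul_one]
  by_cases hux : Commute u x
  · have h1 : u * x * u = x := by rw [hux.eq, mul_assoc, su, mul_one]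
    have h2 : w * x * w = x := key.trans h1
    refine ⟨hux, ?_⟩
    show w * x = x * w
    calc w * x = w * x * (w * w) := by rw [sw, mul_one]
      _ = (w * x * w) * w := by group
      _ = x * w := by rw [h2]
  by_cases hwx : Commute w x
  · have h1 : w * x * w = x := by rw [hwx.eq, mul_assoc, sw, mul_one]
    have h2 : u * x * u = x := key.symm.trans h1
    refine ⟨?_, hwx⟩
    show u * x = x * u
    calc u * x = u * x * (u * u) := by rw [su, mul_one]
      _ = (u * x * u) * u := by group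
      _ = x * u := by rw [h2]
  · exfalso
    rcases tt2.br u hu x hx with h1 | h1
    · exact hux h1
    rcases tt2.br w hw x hx with h2 | h2
    · exact hwx h2
    have h3 : x * u * x = x * w * x := by rw [← h1, ← key, h2]
    have e : u = w := mul_left_cancel (mul_right_cancel h3)
    rw [e] at hnc
    exact hnc (Commute.refl _)

/-! ### The group `C₂ ∩ F₂` -/

/-- The product of the two transpositions. -/
noncomputable def tau : G2 := z2 * d2

/-- The even part of the centralizer of the two transpositions. -/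
noncomputable def C2F : Subgroup G2 := C2 ⊓ F2

theorem mem_C2F {k : G2} : k ∈ C2F ↔ k ∈ C2 ∧ k ∈ F2 := Subgroup.mem_inf

theorem C2F_C2 {k : G2} (h : k ∈ C2F) : k ∈ C2 := (mem_C2F.1 h).1

theorem C2F_F2 {k : G2} (h : k ∈ C2F) : k ∈ F2 := (mem_C2F.1 h).2

theorem d2_D2 : d2 ∈ D2 := t_mem qz

theorem d2_not_F2 : d2 ∉ F2 := t_not_F2 qz

theorem qz_ne_q0 : qz ≠ q0 := by
  intro h
  have := congrArg (fun x : Fin NN => (x : ℕ)) h
  simp [qz, q0] at this

theorem z2_ne_d2 : z2 ≠ d2 := by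
  intro h
  rw [← t_q0] at h
  exact qz_ne_q0 (t_inj h).symm

theorem tau_F2 : tau ∈ F2 := mul_F2 z2_not_F2 d2_not_F2

theorem tau_C2 : tau ∈ C2 := mul_mem z2_C2 d2_C2

theorem tau_C2F : tau ∈ C2F := mem_C2F.2 ⟨tau_C2, tau_F2⟩

theorem tau_sq : tau * tau = 1 := by
  have := comm_z2_d2.eq
  calc z2 * d2 * (z2 * d2) = z2 * (d2 * z2) * d2 := by group
    _ = z2 * (z2 * d2) * d2 := by rw [← this]
    _ = (z2 * z2) * (d2 * d2) := by group
    _ = 1 := by rw [W2.z2_sq, d2_sq, one_mul]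

theorem tau_ne : tau ≠ 1 := by
  intro h
  have h1 : z2 * d2 = 1 := h
  apply z2_ne_d2
  have h2 : z2⁻¹ = d2 := inv_eq_of_mul_eq_one_right h1
  rw [← h2]
  exact (inv_eq_of_mul_eq_one_left W2.z2_sq).symm

theorem tau_inv : tau⁻¹ = tau := inv_eq_of_mul_eq_one_left tau_sq

theorem comm_C2_tau {k : G2} (hk : k ∈ C2) : Commute k tau := (comm_z2_C2 hk).mul_right (comm_d2_C2 hk)

theorem z2_mul_C2F {u : G2} (hu : u ∈ C2) (hn : u ∉ F2) : z2 * u ∈ C2F :=
  mem_C2F.2 ⟨mul_mem z2_C2 hu, mul_F2 z2_not_F2 hn⟩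

theorem pi_tau : pi tau = 1 := by
  rw [tau, pi_mul z2_C2 d2_C2, pi_z2, pi_d2, one_mul]

theorem piF_surj (x : G0) : ∃ k ∈ C2F, pi k = x := by
  obtain ⟨k, hk, e⟩ := pi_surj x
  by_cases h : k ∈ F2
  · exact ⟨k, mem_C2F.2 ⟨hk, h⟩, e⟩
  · exact ⟨z2 * k, z2_mul_C2F hk h, by rw [pi_mul z2_C2 hk, pi_z2, one_mul, e]⟩

theorem d2_mul_z2 : d2 * z2 = tau := comm_z2_d2.symm.eq

theorem piF_ker {k : G2} (hk : k ∈ C2F) (h : pi k = 1) : k = 1 ∨ k = tau := by
  rcases pi_ker (C2F_C2 hk) h with e | e | e | e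
  · exact Or.inl e
  · exact absurd (e ▸ C2F_F2 hk) z2_not_F2
  · exact absurd (e ▸ C2F_F2 hk) d2_not_F2
  · exact Or.inr (e.trans d2_mul_z2)

theorem piF_eq {u v : G2} (hu : u ∈ C2F) (hv : v ∈ C2F) (h : pi u = pi v) : u = v ∨ u = v * tau := by
  have h1 : v⁻¹ * u ∈ C2F := mul_mem (inv_mem hv) hu
  have h2 : pi (v⁻¹ * u) = 1 := by
    rw [pi_mul (inv_mem (C2F_C2 hv)) (C2F_C2 hu), pi_inv (C2F_C2 hv), h, inv_mul_cancel]
  rcases piF_ker h1 h2 with e | e
  · left
    rw [inv_mul_eq_one] at e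
    exact e.symm
  · right
    rw [← e]
    group

/-- The map on the even part. -/
noncomputable def piF : C2F →* G0 :=
  MonoidHom.mk' (fun k => pi k.1) (fun a b => pi_mul (C2F_C2 a.2) (C2F_C2 b.2))

theorem piF_val (k : C2F) : piF k = pi k.1 := rfl

theorem card_C2F : Nat.card C2F = 2 * Nat.card G0 := by
  have h1 := Subgroup.card_mul_index (MonoidHom.ker piF)
  rw [Subgroup.index_ker] at h1
  have h2 : piF.range = ⊤ := by
    rw [MonoidHom.range_eq_top]
    intro x
    obtain ⟨k, hk, e⟩ := piF_surj x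
    exact ⟨⟨k, hk⟩, e⟩
  have h3 : Nat.card piF.range = Nat.card G0 := by
    rw [h2]
    exact Nat.card_congr Subgroup.topEquiv.toEquiv
  have h4 : Nat.card (MonoidHom.ker piF) = 2 := by
    rw [Nat.card_eq_two_iff]
    refine ⟨⟨1, one_mem _⟩, ⟨⟨tau, tau_C2F⟩, by rw [MonoidHom.mem_ker, piF_val]; exact pi_tau⟩, ?_, ?_⟩
    · intro h
      have := congrArg (fun x : MonoidHom.ker piF => ((x : C2F) : G2)) h
      exact tau_ne this.symm
    · ext ⟨⟨k, hk⟩, hk2⟩
      simp only [Set.mem_insert_iff, Set.mem_singleton_iff, Set.mem_univ, iff_true]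
      rw [MonoidHom.mem_ker, piF_val] at hk2
      rcases piF_ker hk hk2 with e | e
      · left
        apply Subtype.ext
        apply Subtype.ext
        exact e
      · right
        apply Subtype.ext
        apply Subtype.ext
        exact e
  rw [h3, h4] at h1
  exact h1.symm

/-! ### Centralizers in `F₂` -/

/-- The centralizer in `F₂`. -/
noncomputable def cF (x : G2) : Subgroup G2 := Subgroup.centralizer {x} ⊓ F2

theorem mem_cF {x y : G2} : y ∈ cF x ↔ Commute y x ∧ y ∈ F2 := by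
  rw [cF, Subgroup.mem_inf, Subgroup.mem_centralizer_singleton_iff]
  exact Iff.rfl

theorem card_cF_conj (g x : G2) : Nat.card (cF (g * x * g⁻¹)) = Nat.card (cF x) := by
  refine Nat.card_congr ⟨fun y => ⟨g⁻¹ * y.1 * g, ?_⟩, fun y => ⟨g * y.1 * g⁻¹, ?_⟩, ?_, ?_⟩
  · obtain ⟨h1, h2⟩ := mem_cF.1 y.2
    refine mem_cF.2 ⟨?_, ?_⟩
    · have h3 := conj_comm2 (g := g⁻¹) h1
      have e1 : g⁻¹ * (g * x * g⁻¹) * g⁻¹⁻¹ = x := by group
      have e2 : g⁻¹ * y.1 * g⁻¹⁻¹ = g⁻¹ * y.1 * g := by group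
      rwa [e1, e2] at h3
    · have := F2_normal.conj_mem _ h2 g⁻¹
      rwa [inv_inv] at this
  · obtain ⟨h1, h2⟩ := mem_cF.1 y.2
    exact mem_cF.2 ⟨conj_comm2 h1, F2_normal.conj_mem _ h2 g⟩
  · intro y
    apply Subtype.ext
    show g * (g⁻¹ * y.1 * g) * g⁻¹ = y.1
    group
  · intro y
    apply Subtype.ext
    show g⁻¹ * (g * y.1 * g⁻¹) * g = y.1
    group

section PH

variable {F : G2 → G2} (hF : PHom F2 F)
include hF

theorem PH_inv {x : G2} (hx : x ∈ F2) : F x⁻¹ = (F x)⁻¹ := by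
  have h := hF.mul x hx x⁻¹ (inv_mem hx)
  rw [mul_inv_cancel, hF.map_one] at h
  exact (inv_eq_of_mul_eq_one_right h.symm).symm

theorem PH_inj {x y : G2} (hx : x ∈ F2) (hy : y ∈ F2) (h : F x = F y) : x = y := by
  have h1 : F (x * y⁻¹) = 1 := by
    rw [hF.mul x hx _ (inv_mem hy), PH_inv hF hy, h, mul_inv_cancel]
  have h2 := hF.inj _ (mul_mem hx (inv_mem hy)) h1
  exact mul_inv_eq_one.1 h2

theorem PH_surj {y : G2} (hy : y ∈ F2) : ∃ x ∈ F2, F x = y := by
  have hinj : Function.Injective (fun x : F2 => (⟨F x.1, hF.mem x.1 x.2⟩ : F2)) := by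
    intro a b h
    exact Subtype.ext (PH_inj hF a.2 b.2 (congrArg Subtype.val h))
  obtain ⟨x, hx⟩ := (Finite.injective_iff_surjective.1 hinj) ⟨y, hy⟩
  exact ⟨x.1, x.2, congrArg Subtype.val hx⟩

theorem PH_comm {x y : G2} (hx : x ∈ F2) (hy : y ∈ F2) (h : Commute x y) : Commute (F x) (F y) := by
  show F x * F y = F y * F x
  rw [← hF.mul x hx y hy, ← hF.mul y hy x hx, h.eq]

theorem PH_comm_iff {x y : G2} (hx : x ∈ F2) (hy : y ∈ F2) : Commute (F x) (F y) ↔ Commute x y := by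
  refine ⟨fun h => ?_, PH_comm hF hx hy⟩
  show x * y = y * x
  apply PH_inj hF (mul_mem hx hy) (mul_mem hy hx)
  rw [hF.mul x hx y hy, hF.mul y hy x hx]
  exact h.eq

theorem card_cF_F {x : G2} (hx : x ∈ F2) : Nat.card (cF (F x)) = Nat.card (cF x) := by
  symm
  refine Nat.card_congr (Equiv.ofBijective (fun y : cF x => (⟨F y.1, ?_⟩ : cF (F x))) ⟨?_, ?_⟩)
  · obtain ⟨h1, h2⟩ := mem_cF.1 y.2
    exact mem_cF.2 ⟨PH_comm hF h2 hx h1, hF.mem _ h2⟩
  · intro a b h
    have h1 := congrArg Subtype.val h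
    exact Subtype.ext (PH_inj hF (mem_cF.1 a.2).2 (mem_cF.1 b.2).2 h1)
  · intro y
    obtain ⟨h1, h2⟩ := mem_cF.1 y.2
    obtain ⟨w, hw, e⟩ := PH_surj hF h2
    refine ⟨⟨w, mem_cF.2 ⟨?_, hw⟩⟩, Subtype.ext e⟩
    rw [← e] at h1
    exact (PH_comm_iff hF hw hx).1 h1

end PH

/-- A central involution of a Sylow subgroup. -/
theorem exists_central : ∃ w ∈ F2, orderOf w = 2 ∧ 2 ^ 21 ∣ Nat.card (cF w) := by
  have h1 := Subgroup.card_mul_index F2
  rw [F2_index, card2] at h1
  have h2 : 2 ^ 21 ∣ Nat.card F2 := by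
    have h3 : Nat.card F2 = 2 ^ 21 * (3 ^ 16 * 5 ^ 2 * 7 ^ 3 * 11 * 13 * 17 * 23 * 29) := by omega
    rw [h3]
    exact dvd_mul_right _ _
  haveI : Fact (Nat.Prime 2) := ⟨Nat.prime_two⟩
  obtain ⟨K, hK⟩ := Sylow.exists_subgroup_card_pow_prime (G := F2) 2 h2
  have hp : IsPGroup 2 K := IsPGroup.of_card hK
  haveI : Nontrivial K := by
    apply (Finite.one_lt_card_iff_nontrivial).1
    rw [hK]
    norm_num
  haveI : Nontrivial (Subgroup.center K) := hp.center_nontrivial
  have hz : IsPGroup 2 (Subgroup.center K) := hp.to_subgroup _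
  have h3 : 2 ∣ Nat.card (Subgroup.center K) := by
    rcases hz.card_eq_or_dvd with h | h
    · have := (Finite.one_lt_card_iff_nontrivial (α := Subgroup.center K)).2 inferInstance
      omega
    · exact h
  obtain ⟨x, hx⟩ := exists_prime_orderOf_dvd_card' 2 h3
  refine ⟨((x.1 : F2) : G2), (x.1 : F2).2, ?_, ?_⟩
  · rw [Subgroup.orderOf_coe, Subgroup.orderOf_coe, Subgroup.orderOf_coe]
    exact hx
  · have hle : K.map F2.subtype ≤ cF ((x.1 : F2) : G2) := by
      rintro _ ⟨k, hk, rfl⟩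
      refine mem_cF.2 ⟨?_, k.2⟩
      have h4 := (Subgroup.mem_center_iff.1 x.2) ⟨k, hk⟩
      have h5 := congrArg (fun y : K => ((y : F2) : G2)) h4
      exact h5
    have h6 := Subgroup.card_dvd_of_le hle
    have h7 : Nat.card (K.map F2.subtype) = Nat.card K :=
      (Nat.card_congr (K.equivMapOfInjective _ F2.subtype_injective).toEquiv).symm
    rw [h7, hK] at h6
    exact h6

end Cfsg.Agent.Lib.Fischer.M24.O24
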