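/-
Automorphisms of the explicit `Fi₂₄′`: the labels of the data, the element `s`, the normalisation of an automorphism on the
centralizer of a product of two transpositions.
-/
import Mathlib
import Cfsg.Agent.Lib.Fischer.M24.O24.Basic

set_option autoImplicit false
set_option maxRecDepth 100000

namespace Cfsg.Agent.Lib.Fischer.M24.O24

open Cfsg Cfsg.Agent.Lib.Compute.BitNet Cfsg.Agent.Lib.Fischer.M24.Net Cfsg.Agent.Lib.Fischer.M24.Explicit
open Cfsg.Agent.Lib.Fischer.M24.A37 Cfsg.Agent.Lib.Fischer.M24.InvolAll Cfsg.Agent.Lib.Fischer.M24.W2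
open Cfsg.Agent.Lib.Fischer.Basic Cfsg.Agent.Lib.Fischer.Local
open Cfsg.Agent.Lib.Fischer.M22.Explicit (PM simple0 center0 card0)
open Cfsg.Agent.Lib.Compute.OutCert

/-! ### Labels -/

/-- A label. -/
def qL (n : ℕ) : Fin NN := ⟨n % NN, Nat.mod_lt _ (by norm_num)⟩

theorem qL_val {n : ℕ} (hn : n < NN) : ((qL n : Fin NN) : ℕ) = n := Nat.mod_eq_of_lt hn

theorem t_qL {n : ℕ} (hn : n < NN) (h : Nat.beq (ptW (vL n) 31671) n = true) : t (qL n) = Lw (wT n) := by
  apply t_word (x := 10) (by decide)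
  rw [qL_val hn, ← ptW_eq]
  exact Nat.eq_of_beq_eq_true h

theorem act_of {u : List ℕ} {p : Fin NN} {n : ℕ} (hn : n < NN) (h : ptW u p = n) : φ (Lw u) p = qL n :=
  Fin.ext (by rw [φ_Lw, ← ptW_eq, h, qL_val hn])

theorem q0_eq : qL 31671 = q0 := rfl

theorem qz_eq : qL 0 = qz := rfl

/-- A label of the centralizer of the two transpositions. -/
structure D3 (p : Fin NN) : Prop where
  mem : t p ∈ C2
  ne0 : p ≠ q0
  ne1 : p ≠ qz

theorem mem_C2_of {x : G2} (h0 : φ x q0 = q0) (h1 : φ x qz = qz) : x ∈ C2 :=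
  mem_C2.2 ⟨(mem_H2_iff x).2 h0, h1⟩

theorem D3_of {n : ℕ} (hn : n < NN) (h0 : n ≠ 31671) (h1 : n ≠ 0) (h : okD n = true) : D3 (qL n) := by
  have h' := h
  simp only [okD, Bool.and_eq_true] at h'
  obtain ⟨⟨h2, h3⟩, h4⟩ := h'
  refine ⟨?_, ?_, ?_⟩
  · rw [t_qL hn h2]
    apply mem_C2_of
    · apply Fin.ext
      rw [φ_Lw, ← ptW_eq]
      exact Nat.eq_of_beq_eq_true h3
    · apply Fin.ext
      rw [φ_Lw, ← ptW_eq]
      exact Nat.eq_of_beq_eq_true h4
  · intro e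
    apply h0
    have := congrArg (fun x : Fin NN => (x : ℕ)) e
    simp only [qL_val hn] at this
    exact this
  · intro e
    apply h1
    have := congrArg (fun x : Fin NN => (x : ℕ)) e
    simp only [qL_val hn] at this
    exact this

theorem seed_lt : ∀ n ∈ seedL, n < NN ∧ n ≠ 31671 ∧ n ≠ 0 := by decide

theorem D3_seed {n : ℕ} (h : n ∈ seedL) : D3 (qL n) :=
  D3_of (seed_lt n h).1 (seed_lt n h).2.1 (seed_lt n h).2.2 (seed_ok n h)

theorem okD_beq {n : ℕ} (h : okD n = true) : Nat.beq (ptW (vL n) 31671) n = true := by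
  simp only [okD, Bool.and_eq_true] at h
  exact h.1.1

theorem t_seed {n : ℕ} (h : n ∈ seedL) : t (qL n) = Lw (wT n) :=
  t_qL (seed_lt n h).1 (okD_beq (seed_ok n h))

theorem D3_z2 {p : Fin NN} (hp : D3 p) : z2 * t p ∈ C2F := z2_mul_C2F hp.mem (t_not_F2 p)

theorem D3_d2 {p : Fin NN} (hp : D3 p) : d2 * t p ∈ C2F :=
  mem_C2F.2 ⟨mul_mem d2_C2 hp.mem, mul_F2 d2_not_F2 (t_not_F2 p)⟩

theorem t_comm_iff (p q : Fin NN) : Commute (t p) (t q) ↔ φ (t p) q = q := comm_t_iff' _ _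

/-! ### The seven labels -/

theorem S_lt : ∀ n ∈ Sn, n < NN := by decide

theorem t_S {n : ℕ} (h : n ∈ Sn) : t (qL n) = Lw (wT n) := t_qL (S_lt n h) (S_words n h)

/-- The element of `C(τ)` exchanging the two transpositions. -/
noncomputable def sS : G2 := Lw sW

theorem sS_eq : sS = t (qL 31701) * t (qL 36462) := by
  rw [t_S (n := 31701) (by decide), t_S (n := 36462) (by decide), ← Lw_append']
  rfl

theorem sS_F2 : sS ∈ F2 := by
  rw [sS_eq]
  exact mul_F2 (t_not_F2 _) (t_not_F2 _)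

theorem sS_q0 : φ sS q0 = qz := by
  have h := s_act 0 (by decide)
  apply Fin.ext
  rw [sS, φ_Lw, ← ptW_eq]
  exact Nat.eq_of_beq_eq_true h

theorem sS_qz : φ sS qz = q0 := by
  have h := s_act 1 (by decide)
  apply Fin.ext
  rw [sS, φ_Lw, ← ptW_eq]
  exact Nat.eq_of_beq_eq_true h

theorem conj_z2 (x : G2) : x * z2 * x⁻¹ = t (φ x q0) := by
  rw [← t_q0, t_conj]

theorem conj_d2 (x : G2) : x * d2 * x⁻¹ = t (φ x qz) := t_conj x qz

theorem sS_comm_tau : Commute sS tau := by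
  have h : sS * tau * sS⁻¹ = tau := by
    rw [tau, conj_mul2, conj_z2, conj_d2, sS_q0, sS_qz, t_q0]
    exact d2_mul_z2
  show sS * tau = tau * sS
  calc sS * tau = sS * tau * sS⁻¹ * sS := by group
    _ = tau * sS := by rw [h]

theorem sS_cF : sS ∈ cF tau := mem_cF.2 ⟨sS_comm_tau, sS_F2⟩

theorem sS_not_C2 : sS ∉ C2 := by
  intro h
  have h1 := C2_H2 h
  rw [mem_H2_iff, sS_q0] at h1
  exact qz_ne_q0 h1

/-- The dichotomy in `C(τ)`. -/
theorem Ct_cases {x : G2} (hx : x ∈ cF tau) : x ∈ C2F ∨ (φ x q0 = qz ∧ φ x qz = q0) := by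
  obtain ⟨h1, h2⟩ := mem_cF.1 hx
  have e : x * z2 * x⁻¹ * (x * d2 * x⁻¹) = z2 * d2 := by
    rw [← conj_mul2]
    have : x * (z2 * d2) * x⁻¹ = x * tau * x⁻¹ := rfl
    rw [this, h1.eq]
    show tau * x * x⁻¹ = tau
    group
  rw [conj_z2, conj_d2] at e
  have hc : Commute (t (φ x q0)) (t (φ x qz)) := by
    rw [← conj_z2, ← conj_d2]
    exact conj_comm2 comm_z2_d2
  rcases pair_uniq (t_mem _) (t_mem _) z2_mem d2_D2 comm_z2_d2 z2_ne_d2 hc e with ⟨e1, e2⟩ | ⟨e1, e2⟩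
  · left
    refine mem_C2F.2 ⟨mem_C2_of ?_ (t_inj e2), h2⟩
    rw [← t_q0] at e1
    exact t_inj e1
  · right
    refine ⟨t_inj e1, ?_⟩
    rw [← t_q0] at e2
    exact t_inj e2

theorem C2F_le : C2F ≤ cF tau := fun _ h => mem_cF.2 ⟨comm_C2_tau (C2F_C2 h), C2F_F2 h⟩

theorem swap_of_not {x : G2} (h : φ x q0 = qz) : x ∉ C2 := by
  intro h1
  have h2 := C2_H2 h1
  rw [mem_H2_iff, h] at h2
  exact qz_ne_q0 h2

theorem phi_inv_eq {x : G2} {p r : Fin NN} (h : φ x p = r) : φ x⁻¹ r = p := by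
  rw [← h]
  exact φ_inv_apply _ _

theorem phi_mul (x y : G2) (p : Fin NN) : φ (x * y) p = φ x (φ y p) := by
  rw [map_mul, Equiv.Perm.mul_apply]

theorem card_Ct : Nat.card (cF tau) = 2 * Nat.card C2F := by
  have hidx : (C2F.subgroupOf (cF tau)).index = 2 := by
    rw [Subgroup.index_eq_two_iff]
    refine ⟨⟨sS, sS_cF⟩, fun b => ?_⟩
    rw [Subgroup.mem_subgroupOf, Subgroup.mem_subgroupOf]
    rcases Ct_cases b.2 with h | ⟨h1, h2⟩
    · right
      refine ⟨h, ?_⟩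
      intro h3
      have h4 : sS ∈ C2F := by
        have h5 : sS = (b : G2)⁻¹ * ((b : G2) * sS) := by group
        rw [h5]
        exact mul_mem (inv_mem h) h3
      exact sS_not_C2 (C2F_C2 h4)
    · left
      refine ⟨?_, fun h3 => swap_of_not h1 (C2F_C2 h3)⟩
      refine mem_C2F.2 ⟨mem_C2_of ?_ ?_, mul_mem (mem_cF.1 b.2).2 sS_F2⟩
      · show φ ((b : G2) * sS) q0 = q0
        rw [phi_mul, sS_q0, h2]
      · show φ ((b : G2) * sS) qz = qz
        rw [phi_mul, sS_qz, h1]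
  have h1 := Subgroup.card_mul_index (C2F.subgroupOf (cF tau))
  rw [hidx, Nat.card_congr (Subgroup.subgroupOfEquivOfLe C2F_le).toEquiv] at h1
  omega

theorem not_dvd_tau : ¬ 2 ^ 21 ∣ Nat.card (cF tau) := by
  rw [card_Ct, card_C2F, card0]
  norm_num

/-! ### Products of two transpositions go to products of two transpositions -/

theorem tau_PM : PM D2 2 tau := PM_two2 z2_mem d2_D2 comm_z2_d2 z2_ne_d2

theorem card_PM {m : ℕ} (h1 : 1 ≤ m) (h4 : m ≤ 4) {x y : G2} (hx : PM D2 m x) (hy : PM D2 m y) :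
    Nat.card (cF x) = Nat.card (cF y) := by
  obtain ⟨g, hg⟩ := PM_conj_rep2 h1 h4 hx
  obtain ⟨g', hg'⟩ := PM_conj_rep2 h1 h4 hy
  rw [← card_cF_conj g x, hg, ← hg', card_cF_conj]

theorem claim_A {F : G2 → G2} (hF : PHom F2 F) {x : G2} (hx : x ∈ F2) (h2 : PM D2 2 x) : PM D2 2 (F x) := by
  have hxx : x * x = 1 := PM_sq2 h2
  have hx1 : x ≠ 1 := by
    intro e
    rw [e] at h2
    obtain ⟨g, hg⟩ := PM_conj_rep2 (by norm_num) (by norm_num) h2
    apply rep2_ne (m := 2) (by norm_num) (by norm_num)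
    rw [← hg]
    group
  have ho : orderOf (F x) = 2 := by
    apply orderOf_eq_prime
    · rw [pow_two, ← hF.mul x hx x hx, hxx, hF.map_one]
    · intro e
      exact hx1 (hF.inj x hx e)
  obtain ⟨m, h1, h4, hm⟩ := invol_all2 ho
  have he := PM_even hm (hF.mem x hx)
  have hcase : m = 2 ∨ m = 4 := by
    obtain ⟨r, hr⟩ := he
    omega
  rcases hcase with rfl | rfl
  · exact hm
  exfalso
  obtain ⟨w, hw, ow, dv⟩ := exists_central
  obtain ⟨m', h1', h4', hm'⟩ := invol_all2 ow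
  have he' := PM_even hm' hw
  have hcase' : m' = 2 ∨ m' = 4 := by
    obtain ⟨r, hr⟩ := he'
    omega
  rcases hcase' with rfl | rfl
  · rw [card_PM (by norm_num) (by norm_num) hm' tau_PM] at dv
    exact not_dvd_tau dv
  · rw [card_PM (by norm_num) (by norm_num) hm' hm, card_cF_F hF hx,
      card_PM (by norm_num) (by norm_num) h2 tau_PM] at dv
    exact not_dvd_tau dv

theorem exists_conj_tau {F : G2 → G2} (hF : PHom F2 F) : ∃ g : G2, g * F tau * g⁻¹ = tau := by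
  have h := claim_A hF tau_F2 tau_PM
  obtain ⟨g, hg⟩ := PM_conj_rep2 (by norm_num) (by norm_num) h
  obtain ⟨g', hg'⟩ := PM_conj_rep2 (by norm_num) (by norm_num) tau_PM
  refine ⟨g'⁻¹ * g, ?_⟩
  have e : g'⁻¹ * g * F tau * (g'⁻¹ * g)⁻¹ = g'⁻¹ * (g * F tau * g⁻¹) * g' := by group
  rw [e, hg, ← hg']
  group

/-! ### Reductions -/

/-- An automorphism given by an element of the whole group. -/
def Good (F : G2 → G2) : Prop := ∃ g : G2, ∀ x ∈ F2, F x = g * x * g⁻¹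

theorem Good.of_conj {k : G2} {F : G2 → G2} (h : Good (conjF k F)) : Good F := by
  obtain ⟨g, hg⟩ := h
  refine ⟨k⁻¹ * g, fun x hx => ?_⟩
  have h1 := hg x hx
  rw [conjF_apply] at h1
  have h2 : F x = k⁻¹ * (k * F x * k⁻¹) * k := by group
  rw [h2, h1]
  group

theorem nF (k : G2) : ∀ x ∈ F2, k * x * k⁻¹ ∈ F2 := fun x hx => F2_normal.conj_mem x hx k

/-! ### Generation of the even part -/

/-- The even part is generated by `τ` and its elements of odd order. -/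
theorem gen_C2F (Q : Subgroup G2) (ht : tau ∈ Q) (hodd : ∀ u ∈ C2F, Odd (orderOf u) → u ∈ Q) : C2F ≤ Q := by
  classical
  let S : Set G0 := {x | ∃ u ∈ C2F, Odd (orderOf u) ∧ pi u = x}
  let N : Subgroup G0 := Subgroup.closure S
  have hS : ∀ x ∈ S, ∀ g : G0, g * x * g⁻¹ ∈ S := by
    rintro x ⟨u, hu, ho, rfl⟩ g
    obtain ⟨c, hc, rfl⟩ := piF_surj g
    refine ⟨c * u * c⁻¹, mul_mem (mul_mem hc hu) (inv_mem hc), ?_, ?_⟩
    · have := MulEquiv.orderOf_eq (MulAut.conj c) u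
      rw [MulAut.conj_apply] at this
      rw [this]
      exact ho
    · exact pi_conj (C2F_C2 hc) (C2F_C2 hu)
  haveI hN : N.Normal := by
    refine ⟨fun n hn g => ?_⟩
    induction hn using Subgroup.closure_induction with
    | mem x hx => exact Subgroup.subset_closure (hS x hx g)
    | one =>
      have : g * 1 * g⁻¹ = 1 := by group
      rw [this]
      exact one_mem _
    | mul x y _ _ hx hy =>
      have : g * (x * y) * g⁻¹ = (g * x * g⁻¹) * (g * y * g⁻¹) := by group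
      rw [this]
      exact mul_mem hx hy
    | inv x _ hx =>
      have : g * x⁻¹ * g⁻¹ = (g * x * g⁻¹)⁻¹ := by group
      rw [this]
      exact inv_mem hx
  have hy : y ∈ C2F := mem_C2F.2 ⟨y_C2, odd_mem_F2 (k := 3) (by decide) y_cube⟩
  have hne : N ≠ ⊥ := by
    intro e
    have h1 : pi y ∈ N := Subgroup.subset_closure ⟨y, hy, by rw [y_order]; decide, rfl⟩
    rw [e, Subgroup.mem_bot, pi_y] at h1
    exact Cfsg.Agent.Lib.Fischer.M22.Rows.D3.rho_ne h1
  have htop : N = ⊤ := (simple0.eq_bot_or_eq_top_of_normal N hN).resolve_left hne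
  have hall : ∀ x ∈ N, ∃ q ∈ Q, q ∈ C2F ∧ pi q = x := by
    intro x hx
    induction hx using Subgroup.closure_induction with
    | mem x hx =>
      obtain ⟨u, hu, ho, rfl⟩ := hx
      exact ⟨u, hodd u hu ho, hu, rfl⟩
    | one => exact ⟨1, one_mem _, one_mem _, pi_one⟩
    | mul x y _ _ hx hy =>
      obtain ⟨q1, h1, h2, rfl⟩ := hx
      obtain ⟨q2, h3, h4, rfl⟩ := hy
      exact ⟨q1 * q2, mul_mem h1 h3, mul_mem h2 h4, pi_mul (C2F_C2 h2) (C2F_C2 h4)⟩
    | inv x _ hx =>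
      obtain ⟨q1, h1, h2, rfl⟩ := hx
      exact ⟨q1⁻¹, inv_mem h1, inv_mem h2, pi_inv (C2F_C2 h2)⟩
  intro u hu
  obtain ⟨q, h1, h2, h3⟩ := hall (pi u) (by rw [htop]; trivial)
  rcases piF_eq hu h2 h3.symm with e | e
  · rw [e]
    exact h1
  · rw [e]
    exact mul_mem h1 ht

theorem swap_pow {x : G2} (h0 : φ x q0 = qz) (h1 : φ x qz = q0) (m : ℕ) : φ (x ^ (2 * m + 1)) q0 = qz := by
  have hs : x * x ∈ Stab q0 := by
    rw [mem_Stab, phi_mul, h0, h1]
  have hp : (x * x) ^ m ∈ Stab q0 := pow_mem hs m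
  rw [mem_Stab] at hp
  have e : x ^ (2 * m + 1) = x * (x * x) ^ m := by
    rw [pow_succ', pow_mul, pow_two]
  rw [e, phi_mul, hp, h0]

section Norm

variable {F : G2 → G2} (hF : PHom F2 F)
include hF

theorem PH_pow {x : G2} (hx : x ∈ F2) (n : ℕ) : F (x ^ n) = F x ^ n := hF.map_pow hx n

/-- `F` preserves the even part. -/
theorem F_C2F (ht : F tau = tau) : ∀ u ∈ C2F, F u ∈ C2F := by
  let Q : Subgroup G2 :=
    { carrier := {x | x ∈ F2 ∧ F x ∈ C2F}
      mul_mem' := fun {a b} ha hb => ⟨mul_mem ha.1 hb.1, by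
        rw [show F (a * b) = F a * F b from hF.mul a ha.1 b hb.1]
        exact mul_mem ha.2 hb.2⟩
      one_mem' := ⟨one_mem _, by rw [hF.map_one]; exact one_mem _⟩
      inv_mem' := fun {a} ha => ⟨inv_mem ha.1, by rw [PH_inv hF ha.1]; exact inv_mem ha.2⟩ }
  have hle : C2F ≤ Q := by
    apply gen_C2F Q ⟨tau_F2, by rw [ht]; exact tau_C2F⟩
    intro u hu ho
    refine ⟨C2F_F2 hu, ?_⟩
    have h1 : F u ∈ cF tau := by
      refine mem_cF.2 ⟨?_, hF.mem u (C2F_F2 hu)⟩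
      rw [← ht]
      exact PH_comm hF (C2F_F2 hu) tau_F2 (comm_C2_tau (C2F_C2 hu))
    rcases Ct_cases h1 with h | ⟨h2, h3⟩
    · exact h
    · exfalso
      obtain ⟨m, hm⟩ := ho
      have h4 := swap_pow h2 h3 m
      rw [← hm, ← PH_pow hF (C2F_F2 hu), pow_orderOf_eq_one, hF.map_one, map_one] at h4
      exact qz_ne_q0 h4.symm
  exact fun u hu => (hle hu).2

/-- The automorphism of `Fi₂₂` induced by `F`. -/
theorem exists_psi (ht : F tau = tau) : ∃ ψ : MulAut G0, ∀ u ∈ C2F, ψ (pi u) = pi (F u) := by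
  classical
  have hm := F_C2F hF ht
  choose sec hs1 hs2 using piF_surj
  have key : ∀ u ∈ C2F, pi (F (sec (pi u))) = pi (F u) := by
    intro u hu
    rcases piF_eq hu (hs1 (pi u)) (hs2 (pi u)).symm with e | e
    · rw [← e]
    · rw [e, hF.mul _ (C2F_F2 (hs1 _)) _ tau_F2, ht, pi_mul (C2F_C2 (hm _ (hs1 _))) tau_C2, pi_tau, mul_one]
      have e2 : pi (sec (pi u) * tau) = pi u := by
        rw [pi_mul (C2F_C2 (hs1 _)) tau_C2, pi_tau, mul_one, hs2]
      rw [e2]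
  let ψ0 : G0 →* G0 := MonoidHom.mk' (fun x => pi (F (sec x))) (fun x y => by
    have h1 : x * y = pi (sec x * sec y) := by
      rw [pi_mul (C2F_C2 (hs1 x)) (C2F_C2 (hs1 y)), hs2, hs2]
    show pi (F (sec (x * y))) = _
    rw [h1, key _ (mul_mem (hs1 x) (hs1 y)), hF.mul _ (C2F_F2 (hs1 x)) _ (C2F_F2 (hs1 y)),
      pi_mul (C2F_C2 (hm _ (hs1 x))) (C2F_C2 (hm _ (hs1 y)))])
  have hinj : Function.Injective ψ0 := by
    rw [injective_iff_map_eq_one]
    intro x hx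
    have h1 : pi (F (sec x)) = 1 := hx
    rcases piF_ker (hm _ (hs1 x)) h1 with e | e
    · have h2 := hF.inj _ (C2F_F2 (hs1 x)) e
      rw [← hs2 x, h2, pi_one]
    · rw [← ht] at e
      have h2 := PH_inj hF (C2F_F2 (hs1 x)) tau_F2 e
      rw [← hs2 x, h2, pi_tau]
  have hb : Function.Bijective ψ0 := Finite.injective_iff_bijective.1 hinj
  refine ⟨MulEquiv.ofBijective ψ0 hb, fun u hu => ?_⟩
  show pi (F (sec (pi u))) = _
  exact key u hu

end Norm

/-! ### Conjugation -/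

theorem pH_id : PHom F2 (id : G2 → G2) where
  mul := fun _ _ _ _ => rfl
  mem := fun _ h => h
  inj := fun _ _ h => h

/-- Conjugation is a map of the family. -/
theorem pH_cj (c : G2) : PHom F2 (conjF c id) := pH_id.conj (nF c)

theorem cj_apply (c x : G2) : conjF c id x = c * x * c⁻¹ := rfl

theorem cF_conj_tau {c : G2} (hc : c ∈ cF tau) : c * tau * c⁻¹ = tau := by
  rw [(mem_cF.1 hc).1.eq]
  group

theorem exists_psi_cj {c : G2} (hc : c ∈ cF tau) : ∃ ψ : MulAut G0, ∀ u ∈ C2F, ψ (pi u) = pi (c * u * c⁻¹) :=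
  exists_psi (pH_cj c) (cF_conj_tau hc)

theorem cj_C2F {c : G2} (hc : c ∈ cF tau) : ∀ u ∈ C2F, c * u * c⁻¹ ∈ C2F :=
  F_C2F (pH_cj c) (cF_conj_tau hc)

end Cfsg.Agent.Lib.Fischer.M24.O24
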