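/-
Automorphisms of the explicit `Fi₂₄′`: every automorphism is induced by an element of `Fi₂₄`.
-/
import Mathlib
import Cfsg.Agent.Lib.Fischer.M24.O24.Core
import Cfsg.Agent.Lib.Sporadic.Fi22Out.Main

set_option autoImplicit false
set_option maxRecDepth 100000

namespace Cfsg.Agent.Lib.Fischer.M24.O24

open Cfsg Cfsg.Agent.Lib.Compute.BitNet Cfsg.Agent.Lib.Fischer.M24.Net Cfsg.Agent.Lib.Fischer.M24.Explicit
open Cfsg.Agent.Lib.Fischer.M24.A37 Cfsg.Agent.Lib.Fischer.M24.InvolAll Cfsg.Agent.Lib.Fischer.M24.W2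
open Cfsg.Agent.Lib.Fischer.Basic Cfsg.Agent.Lib.Fischer.Local
open Cfsg.Agent.Lib.Fischer.M22.Explicit (PM simple0 center0 card0)
open Cfsg.Agent.Lib.Compute.OutCert

/-! ### The outer automorphism `σ` of `Fi₂₂` -/

theorem pi_t_eq {p r : Fin NN} (hp : D3 p) (hr : t r ∈ C2) (h : pi (t r) = pi (t p)) : r = p := by
  have h1 : (t p)⁻¹ * t r ∈ C2 := mul_mem (inv_mem hp.mem) hr
  have h2 : pi ((t p)⁻¹ * t r) = 1 := by
    rw [pi_mul (inv_mem hp.mem) hr, pi_inv hp.mem, h, inv_mul_cancel]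
  have hF : (t p)⁻¹ * t r ∈ F2 := by
    rw [t_inv]
    exact mul_F2 (t_not_F2 p) (t_not_F2 r)
  rcases pi_ker h1 h2 with e | e | e | e
  · rw [inv_mul_eq_one] at e
    exact (t_inj e).symm
  · exact absurd (e ▸ hF) z2_not_F2
  · exact absurd (e ▸ hF) d2_not_F2
  · exfalso
    have e2 : t r = t p * d2 * z2 := by
      rw [mul_assoc, ← e]
      group
    have hc1 : Commute (t p) d2 := comm_d2_C2 hp.mem
    have hc2 : Commute (t p) z2 := comm_z2_C2 hp.mem
    have n1 : t p ≠ d2 := fun k => hp.ne1 (t_inj k)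
    have n2 : t p ≠ z2 := fun k => hp.ne0 (t_inj (k.trans t_q0.symm))
    have h3 := PM_three2 (t_mem p) d2_D2 z2_mem hc1 hc2 comm_z2_d2.symm n1 n2 z2_ne_d2.symm
    rw [← e2] at h3
    have h7 := PM_unique2 (by norm_num) (by norm_num) (by norm_num) (by norm_num) (PM_single2 (t_mem r)) h3
    omega

theorem comm_flat (w : G2) : ∀ l : List ℕ, (∀ n ∈ l, Commute w (Lw (wT n))) → Commute w (Lw (l.map wT).flatten)
  | [], _ => by
    simp only [List.map_nil, List.flatten_nil, Lw_nil]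
    exact Commute.one_right _
  | n :: l, h => by
    simp only [List.map_cons, List.flatten_cons]
    rw [Lw_append']
    exact (h n (by simp)).mul_right (comm_flat w l (fun m hm => h m (by simp [hm])))

theorem oct_one : z2 * Lw (octL.map wT).flatten = 1 := by
  have h1 : Lw octW = Lw [] := by
    apply Lw_eq_pts
    intro x hx
    rw [← ptW_eq]
    exact Nat.eq_of_beq_eq_true (oct_ok x hx)
  rw [Lw_nil] at h1
  rw [octW, Lw_append', Lw_single] at h1
  exact h1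

/-- The automorphism of `Fi₂₂` induced by `s` is not inner. -/
theorem sigma_not_inn {ψ : MulAut G0} (hψ : ∀ u ∈ C2F, ψ (pi u) = pi (sS * u * sS⁻¹)) : ψ ∉ Inn G0 := by
  rintro ⟨g, rfl⟩
  obtain ⟨k, hk, rfl⟩ := piF_surj g
  have hkC := C2F_C2 hk
  set w := k⁻¹ * sS with hw
  have w0 : φ w q0 = qz := by
    rw [hw, phi_mul, sS_q0]
    exact C2_qz (inv_mem hkC)
  have w1 : φ w qz = q0 := by
    rw [hw, phi_mul, sS_qz]
    exact (mem_H2_iff _).1 (C2_H2 (inv_mem hkC))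
  have wz : w * z2 * w⁻¹ = d2 := by
    rw [conj_z2, w0]
    rfl
  have wd : w * d2 * w⁻¹ = z2 := by
    rw [conj_d2, w1, t_q0]
  have hpi : ∀ u ∈ C2F, pi (w * u * w⁻¹) = pi u := by
    intro u hu
    have hs : sS * u * sS⁻¹ ∈ C2F := cj_C2F sS_cF u hu
    have h1 := hψ u hu
    rw [MulAut.conj_apply] at h1
    have e : w * u * w⁻¹ = k⁻¹ * (sS * u * sS⁻¹) * k := by
      rw [hw]
      group
    rw [e, pi_mul (mul_mem (inv_mem hkC) (C2F_C2 hs)) hkC, pi_mul (inv_mem hkC) (C2F_C2 hs), ← h1, pi_inv hkC]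
    group
  have hfix : ∀ p, D3 p → φ w p = p := by
    intro p hp
    have h1 := hpi _ (D3_z2 hp)
    have e : w * (z2 * t p) * w⁻¹ = d2 * t (φ w p) := by
      rw [conj_mul2, wz, t_conj]
    rw [e] at h1
    have hr : t (φ w p) ∈ C2 := by
      have c1 : Commute (t (φ w p)) d2 := by
        rw [← wz, ← t_conj]
        exact conj_comm2 (comm_z2_C2 hp.mem)
      have c2 : Commute (t (φ w p)) z2 := by
        rw [← wd, ← t_conj]
        exact conj_comm2 (comm_d2_C2 hp.mem)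
      exact mem_C2.2 ⟨(comm_z2_iff _).1 c2, (comm_t_iff' _ qz).1 c1⟩
    rw [pi_mul d2_C2 hr, pi_d2, one_mul, pi_mul z2_C2 hp.mem, pi_z2, one_mul] at h1
    exact pi_t_eq hp hr h1
  have hO : Commute w (Lw (octL.map wT).flatten) := by
    apply comm_flat
    intro n hn
    have hs : n ∈ seedL := by
      revert n
      decide
    rw [← t_seed hs]
    exact (comm_t_iff' _ _).2 (hfix _ (D3_seed hs))
  have h1 := oct_one
  have h2 : w * (z2 * Lw (octL.map wT).flatten) * w⁻¹ = 1 := by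
    rw [h1]
    group
  rw [conj_mul2, wz] at h2
  have h3 : w * Lw (octL.map wT).flatten * w⁻¹ = Lw (octL.map wT).flatten := by
    rw [hO.eq]
    group
  rw [h3] at h2
  have h4 : d2 = z2 := by
    have := h2.trans h1.symm
    exact mul_right_cancel this
  exact z2_ne_d2 h4.symm

/-! ### The centralizer of the even part -/

theorem center_pi {v : G2} (hv : v ∈ C2) (h : ∀ u ∈ C2F, Commute v u) : pi v = 1 := by
  have h1 : pi v ∈ Subgroup.center G0 := by
    refine Subgroup.mem_center_iff.2 (fun g => ?_)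
    obtain ⟨k, hk, rfl⟩ := piF_surj g
    rw [← pi_mul (C2F_C2 hk) hv, ← pi_mul hv (C2F_C2 hk), (h k hk).eq]
  rw [center0] at h1
  exact Subgroup.mem_bot.1 h1

/-- A label fixed by the even part. -/
theorem only_fix {p : Fin NN} (h : ∀ u ∈ C2F, Commute (t p) u) : p = q0 ∨ p = qz := by
  have hx : D3 (qL 8003) := D3_seed (by decide)
  have n1 : z2 ≠ t (qL 8003) := fun k => hx.ne0 (t_inj (k.symm.trans t_q0.symm))
  have n2 : d2 ≠ t (qL 8003) := fun k => hx.ne1 (t_inj k.symm)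
  have c1 : Commute z2 (t p) :=
    comm_first2 z2_mem (t_mem _) (t_mem p) (comm_z2_C2 hx.mem).symm n1 (h _ (D3_z2 hx)).symm
  have c2 : Commute d2 (t p) :=
    comm_first2 d2_D2 (t_mem _) (t_mem p) (comm_d2_C2 hx.mem).symm n2 (h _ (D3_d2 hx)).symm
  have hm : t p ∈ C2 := mem_C2.2 ⟨(comm_z2_iff _).1 c1.symm, (comm_t_iff' _ qz).1 c2.symm⟩
  rcases pi_ker hm (center_pi hm h) with e | e | e | e
  · exact absurd e (tt2.ne_one _ (t_mem p))
  · exact Or.inl (t_inj (e.trans t_q0.symm))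
  · exact Or.inr (t_inj e)
  · exact absurd (e ▸ (mul_F2 d2_not_F2 z2_not_F2)) (t_not_F2 p)

theorem cent_C2F {v : G2} (hv : v ∈ F2) (h : ∀ u ∈ C2F, Commute v u) : v = 1 ∨ v = tau := by
  have key : ∀ (q : Fin NN), (∀ u ∈ C2F, Commute (t q) u) → (φ v q = q0 ∨ φ v q = qz) := by
    intro q hq
    apply only_fix
    intro u hu
    rw [← t_conj]
    exact ((h u hu).mul_left (hq u hu)).mul_left (h u hu).inv_left
  have c0 : ∀ u ∈ C2F, Commute (t q0) u := fun u hu => by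
    rw [t_q0]
    exact (comm_z2_C2 (C2F_C2 hu)).symm
  have c1 : ∀ u ∈ C2F, Commute (t qz) u := fun u hu => (comm_d2_C2 (C2F_C2 hu)).symm
  have inj : Function.Injective (φ v) := (φ v).injective
  rcases key q0 c0 with h0 | h0
  · have h1 : φ v qz = qz := by
      rcases key qz c1 with h1 | h1
      · exact absurd (inj (h1.trans h0.symm)) qz_ne_q0
      · exact h1
    have hc : v ∈ C2 := mem_C2_of h0 h1
    exact piF_ker (mem_C2F.2 ⟨hc, hv⟩) (center_pi hc h)
  · have h1 : φ v qz = q0 := by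
      rcases key qz c1 with h1 | h1
      · exact h1
      · exact absurd (inj (h1.trans h0.symm)) qz_ne_q0
    exfalso
    obtain ⟨σ, hσ⟩ := exists_psi_cj sS_cF
    apply sigma_not_inn hσ
    set k := sS⁻¹ * v with hk
    have hkC : k ∈ C2F := by
      refine mem_C2F.2 ⟨mem_C2_of ?_ ?_, mul_mem (inv_mem sS_F2) hv⟩
      · rw [hk, phi_mul, h0]
        exact phi_inv_eq sS_q0
      · rw [hk, phi_mul, h1]
        exact phi_inv_eq sS_qz
    have hv' : v = sS * k := by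
      rw [hk]
      group
    refine ⟨(pi k)⁻¹, ?_⟩
    ext x
    obtain ⟨u, hu, rfl⟩ := piF_surj x
    -- the element `k u k⁻¹` of the even part
    have hku : k * u * k⁻¹ ∈ C2F := mul_mem (mul_mem hkC hu) (inv_mem hkC)
    have e1 : σ (pi (k * u * k⁻¹)) = pi u := by
      rw [hσ _ hku]
      have : sS * (k * u * k⁻¹) * sS⁻¹ = v * u * v⁻¹ := by
        rw [hv']
        group
      rw [this, (h u hu).eq]
      congr 1
      group
    have e2 : pi (k * u * k⁻¹) = pi k * pi u * (pi k)⁻¹ := pi_conj (C2F_C2 hkC) (C2F_C2 hu)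
    rw [e2] at e1
    -- `σ (conj (pi k) x) = x`
    have e3 : σ (pi k * pi u * (pi k)⁻¹) = pi u := e1
    rw [MulAut.conj_apply, inv_inv]
    -- apply this to `(pi k)⁻¹ x (pi k)`
    obtain ⟨u', hu', hu2⟩ := piF_surj ((pi k)⁻¹ * pi u * pi k)
    have hku' : k * u' * k⁻¹ ∈ C2F := mul_mem (mul_mem hkC hu') (inv_mem hkC)
    have e4 : σ (pi (k * u' * k⁻¹)) = pi u' := by
      rw [hσ _ hku']
      have : sS * (k * u' * k⁻¹) * sS⁻¹ = v * u' * v⁻¹ := by
        rw [hv']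
        group
      rw [this, (h u' hu').eq]
      congr 1
      group
    rw [pi_conj (C2F_C2 hkC) (C2F_C2 hu'), hu2] at e4
    have e5 : pi k * ((pi k)⁻¹ * pi u * pi k) * (pi k)⁻¹ = pi u := by group
    rw [e5] at e4
    exact e4.symm

/-! ### Normalisation -/

theorem card_out_G0 : (Inn G0).index = 2 := Cfsg.Agent.Lib.Sporadic.Fi22Out.Main.card_out_Fi22

theorem norm_psi {F : G2 → G2} (hF : PHom F2 F) (ht : F tau = tau) :
    ∃ c ∈ cF tau, ∀ u ∈ C2F, pi (c⁻¹ * F u * c) = pi u := by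
  obtain ⟨ψ, hψ⟩ := exists_psi hF ht
  have key : ∃ c ∈ cF tau, ∀ u ∈ C2F, ψ (pi u) = pi (c * u * c⁻¹) := by
    by_cases hi : ψ ∈ Inn G0
    · obtain ⟨g, hg⟩ := hi
      obtain ⟨k, hk, rfl⟩ := piF_surj g
      refine ⟨k, C2F_le hk, fun u hu => ?_⟩
      rw [← hg, MulAut.conj_apply, pi_conj (C2F_C2 hk) (C2F_C2 hu)]
    · obtain ⟨σ, hσ⟩ := exists_psi_cj sS_cF
      have hn := sigma_not_inn hσ
      have hn' : σ⁻¹ ∉ Inn G0 := fun k => hn (by simpa using inv_mem k)
      have hm : σ⁻¹ * ψ ∈ Inn G0 :=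
        (Subgroup.mul_mem_iff_of_index_two card_out_G0).2 (iff_of_false hn' hi)
      obtain ⟨g, hg⟩ := hm
      obtain ⟨k, hk, rfl⟩ := piF_surj g
      refine ⟨sS * k, mul_mem sS_cF (C2F_le hk), fun u hu => ?_⟩
      have e : ψ = σ * MulAut.conj (pi k) := by
        rw [hg]
        group
      rw [e, MulAut.mul_apply, MulAut.conj_apply, ← pi_conj (C2F_C2 hk) (C2F_C2 hu),
        hσ _ (mul_mem (mul_mem hk hu) (inv_mem hk))]
      have e2 : sS * (k * u * k⁻¹) * sS⁻¹ = sS * k * u * (sS * k)⁻¹ := by group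
      rw [e2]
  obtain ⟨c, hc, hψc⟩ := key
  refine ⟨c, hc, fun u hu => ?_⟩
  obtain ⟨ψc, hc2⟩ := exists_psi_cj hc
  have hci : c⁻¹ ∈ cF tau := inv_mem hc
  have hv : c⁻¹ * F u * c ∈ C2F := by
    have := cj_C2F hci _ (F_C2F hF ht u hu)
    rwa [inv_inv] at this
  apply ψc.injective
  rw [hc2 _ hv, hc2 _ hu, ← hψc u hu, hψ u hu]
  congr 1
  group

theorem tau_pow_odd (m : ℕ) : tau ^ (2 * m + 1) = tau := by
  rw [pow_succ, pow_mul, pow_two, tau_sq, one_pow, one_mul]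

theorem fix_C2F {F : G2 → G2} (hF : PHom F2 F) (ht : F tau = tau) (h : ∀ u ∈ C2F, pi (F u) = pi u) :
    ∀ u ∈ C2F, F u = u := by
  let Q : Subgroup G2 :=
    { carrier := {x | x ∈ F2 ∧ F x = x}
      mul_mem' := fun {a b} ha hb => ⟨mul_mem ha.1 hb.1, by
        rw [show F (a * b) = F a * F b from hF.mul a ha.1 b hb.1, ha.2, hb.2]⟩
      one_mem' := ⟨one_mem _, hF.map_one⟩
      inv_mem' := fun {a} ha => ⟨inv_mem ha.1, by rw [PH_inv hF ha.1, ha.2]⟩ }
  have hle : C2F ≤ Q := by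
    apply gen_C2F Q ⟨tau_F2, ht⟩
    intro u hu ho
    refine ⟨C2F_F2 hu, ?_⟩
    rcases piF_eq (F_C2F hF ht u hu) hu (h u hu) with e | e
    · exact e
    · exfalso
      obtain ⟨m, hm⟩ := ho
      have h1 : F u ^ orderOf u = 1 := by
        rw [← PH_pow hF (C2F_F2 hu), pow_orderOf_eq_one, hF.map_one]
      rw [e, ((comm_C2_tau (C2F_C2 hu)).mul_pow), pow_orderOf_eq_one, one_mul, hm, tau_pow_odd] at h1
      exact tau_ne h1
  exact fun u hu => (hle hu).2

theorem fix_sS {F : G2 → G2} (hF : PHom F2 F) (h : ∀ u ∈ C2F, F u = u) : F sS = sS ∨ F sS = sS * tau := by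
  have hv : sS⁻¹ * F sS ∈ F2 := mul_mem (inv_mem sS_F2) (hF.mem _ sS_F2)
  have hc : ∀ u ∈ C2F, Commute (sS⁻¹ * F sS) u := by
    intro u hu
    have hx := cj_C2F sS_cF u hu
    have h1 := h _ hx
    rw [hF.mul _ (mul_mem sS_F2 (C2F_F2 hu)) _ (inv_mem sS_F2), hF.mul _ sS_F2 _ (C2F_F2 hu), PH_inv hF sS_F2, h u hu] at h1
    show sS⁻¹ * F sS * u = u * (sS⁻¹ * F sS)
    have h2 : F sS * u = sS * u * sS⁻¹ * F sS := by
      rw [← h1]
      group
    calc sS⁻¹ * F sS * u = sS⁻¹ * (F sS * u) := by group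
      _ = sS⁻¹ * (sS * u * sS⁻¹ * F sS) := by rw [h2]
      _ = u * (sS⁻¹ * F sS) := by group
  rcases cent_C2F hv hc with e | e
  · left
    rw [inv_mul_eq_one] at e
    exact e.symm
  · right
    rw [← e]
    group

theorem fix_Ct {F : G2 → G2} (hF : PHom F2 F) (h : ∀ u ∈ C2F, F u = u) (hs : F sS = sS) : ∀ x ∈ cF tau, F x = x := by
  intro x hx
  rcases Ct_cases hx with hc | ⟨h0, h1⟩
  · exact h x hc
  · have hk : sS⁻¹ * x ∈ C2F := by
      refine mem_C2F.2 ⟨mem_C2_of ?_ ?_, mul_mem (inv_mem sS_F2) (mem_cF.1 hx).2⟩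
      · rw [phi_mul, h0]
        exact phi_inv_eq sS_q0
      · rw [phi_mul, h1]
        exact phi_inv_eq sS_qz
    have e : x = sS * (sS⁻¹ * x) := by group
    have h2 := h _ hk
    rw [e, hF.mul _ sS_F2 _ (C2F_F2 hk), hs, h2]

/-! ### One more involution -/

/-- The involution outside the centralizer of `τ`. -/
noncomputable def tp : G2 := t (qL 31700) * t (qL 11589)

theorem qE_lt : 31700 < NN := by norm_num

theorem tp_F2 : tp ∈ F2 := mul_F2 (t_not_F2 _) (t_not_F2 _)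

theorem cm_S {i j : ℕ} (hi : i ∈ List.range 7) (hj : j ∈ List.range 7)
    (h : Commute (t (qL (Sn.getD i 0))) (t (qL (Sn.getD j 0)))) : (cmT.getD i []).getD j false = true := by
  rw [← cm_ok i hi j hj]
  have h1 := (comm_t_iff' _ _).1 h
  have hS : ∀ i ∈ List.range 7, Sn.getD i 0 ∈ Sn := by decide
  have hni := hS i hi
  have hnj := hS j hj
  rw [t_S hni] at h1
  have h2 := congrArg (fun x : Fin NN => (x : ℕ)) h1
  simp only [φ_Lw, ← ptW_eq, qL_val (S_lt _ hnj)] at h2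
  rw [h2]
  exact Nat.beq_refl _

theorem tp_comm_e1 : Commute (t (qL 31700)) (t (qL 11589)) := by
  have h := cm_ok 3 (by decide) 2 (by decide)
  have h1 : Nat.beq (ptW (wT 31700) 11589) 11589 = true := h
  apply (comm_t_iff' _ _).2
  rw [t_S (n := 31700) (by decide)]
  apply Fin.ext
  rw [φ_Lw, ← ptW_eq, qL_val (n := 11589) (by norm_num)]
  exact Nat.eq_of_beq_eq_true h1

end Cfsg.Agent.Lib.Fischer.M24.O24
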