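/-
The outer automorphism group of the explicit `Fi₂₄′`.
-/
import Mathlib
import Cfsg.Agent.Lib.Fischer.M24.O24.Final

set_option autoImplicit false
set_option maxRecDepth 100000

namespace Cfsg.Agent.Lib.Fischer.M24.O24

open Cfsg Cfsg.Agent.Lib.Compute.BitNet Cfsg.Agent.Lib.Fischer.M24.Net Cfsg.Agent.Lib.Fischer.M24.Explicit
open Cfsg.Agent.Lib.Fischer.M24.A37 Cfsg.Agent.Lib.Fischer.M24.InvolAll Cfsg.Agent.Lib.Fischer.M24.W2
open Cfsg.Agent.Lib.Fischer.Basic Cfsg.Agent.Lib.Fischer.Local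
open Cfsg.Agent.Lib.Fischer.M22.Explicit (PM simple0 center0 card0)
open Cfsg.Agent.Lib.Compute.OutCert

/-! ### The fixed subgroup -/

/-- The letters generate. -/
theorem closure_L : Subgroup.closure (L '' {x | x ∈ gL}) = ⊤ := by
  rw [eq_top_iff]
  rintro ⟨g, hg⟩ -
  have hg' : g ∈ Subgroup.closure (τ '' {x | x ∈ gL}) := hg
  have key : ∀ x (_ : x ∈ Subgroup.closure (τ '' {x | x ∈ gL})) (hx : x ∈ Gm),
      (⟨x, hx⟩ : G2) ∈ Subgroup.closure (L '' {x | x ∈ gL}) := by
    intro x hx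
    induction hx using Subgroup.closure_induction with
    | mem x hx =>
      obtain ⟨n, hn, rfl⟩ := hx
      intro h
      exact Subgroup.subset_closure ⟨n, hn, rfl⟩
    | one => intro h; exact one_mem _
    | mul x y hx hy ihx ihy =>
      intro h
      exact mul_mem (ihx hx) (ihy hy)
    | inv x hx ih =>
      intro h
      exact inv_mem (ih hx)
  exact key g hg' hg

section Fx

variable {F : G2 → G2} (hF : PHom F2 F)

/-- The elements of `F₂` fixed by `F`. -/
def Fx : Subgroup G2 where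
  carrier := {x | x ∈ F2 ∧ F x = x}
  mul_mem' := fun {a b} ha hb => ⟨mul_mem ha.1 hb.1, by
    rw [show F (a * b) = F a * F b from hF.mul a ha.1 b hb.1, ha.2, hb.2]⟩
  one_mem' := ⟨one_mem _, hF.map_one⟩
  inv_mem' := fun {a} ha => ⟨inv_mem ha.1, by rw [PH_inv hF ha.1, ha.2]⟩

theorem mem_Fx {x : G2} : x ∈ Fx hF ↔ x ∈ F2 ∧ F x = x := Iff.rfl

/-- A label is good if the product with `l` is fixed. -/
def XL (p : Fin NN) : Prop := z2 * t p ∈ Fx hF

theorem XL_step {p r : Fin NN} (hp : XL hF p) (hr : XL hF r) : XL hF (φ (t r) p) := by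
  unfold XL at *
  have e : z2 * t (φ (t r) p) = (z2 * t r) * (z2 * t p)⁻¹ * (z2 * t r) := by
    rw [← t_conj, t_inv]
    have hz : z2⁻¹ = z2 := inv_eq_of_mul_eq_one_left W2.z2_sq
    rw [mul_inv_rev, hz, t_inv]
    calc z2 * (t r * t p * t r) = z2 * t r * t p * t r := by group
      _ = z2 * t r * t p * (z2 * z2) * t r := by rw [W2.z2_sq, mul_one]
      _ = _ := by group
  rw [e]
  exact mul_mem (mul_mem hr (inv_mem hp)) hr

include hF in
/-- If `F` is trivial on `C(τ)` and fixes one more involution, then `F` is trivial. -/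
theorem trivial_of (hC : ∀ x ∈ cF tau, F x = x) (ht : F tp = tp) : ∀ x ∈ F2, F x = x := by
  have hE1 : D3 (qL 11589) := D3_seed (by decide)
  have hC2 : ∀ p, D3 p → XL hF p := fun p hp =>
    ⟨C2F_F2 (D3_z2 hp), hC _ (C2F_le (D3_z2 hp))⟩
  have hq0 : XL hF q0 := by
    unfold XL
    rw [t_q0, W2.z2_sq]
    exact one_mem _
  have hqz : XL hF qz := ⟨tau_F2, hC _ (C2F_le tau_C2F)⟩
  have htp : tp ∈ Fx hF := ⟨tp_F2, ht⟩
  have hqE : XL hF (qL 31700) := by
    unfold XL
    have e : z2 * t (qL 31700) = (z2 * t (qL 11589)) * (t (qL 31700) * t (qL 11589)) := by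
      have h1 := t_sq (qL 11589)
      rw [tp_comm_e1.eq]
      calc z2 * t (qL 31700) = z2 * (t (qL 11589) * t (qL 11589)) * t (qL 31700) := by
            rw [h1]
            rw [mul_one]
        _ = _ := by group
    rw [e]
    exact mul_mem (hC2 _ hE1) htp
  have s0 : ∀ {r p p' : ℕ}, (r, p, p') ∈ steps → XL hF (qL r) → XL hF (qL p) → XL hF (qL p') := by
    intro r p p' hm hr hp
    have hl0 : ∀ q ∈ steps, q.1 < NN ∧ q.2.1 < NN ∧ q.2.2 < NN := by decide
    have hl : r < NN ∧ p < NN ∧ p' < NN := hl0 _ hm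
    have h2 := XL_step hF hp hr
    have e : φ (t (qL r)) (qL p) = qL p' := by
      rw [t_qL hl.1 (steps_w _ hm)]
      apply act_of hl.2.2
      rw [qL_val hl.2.1]
      exact Nat.eq_of_beq_eq_true (steps_ok _ hm)
    rwa [e] at h2
  have hS : ∀ n, n ∈ seedL → XL hF (qL n) := fun n hn => hC2 _ (D3_seed hn)
  have a1 := s0 (r := 31700) (p := 196) (p' := 49635) (by decide) hqE (hS 196 (by decide))
  have a2 := s0 (r := 2146) (p := 49635) (p' := 41544) (by decide) (hS 2146 (by decide)) a1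
  have a3 := s0 (r := 3841) (p := 41544) (p' := 34078) (by decide) (hS 3841 (by decide)) a2
  have a4 := s0 (r := 31700) (p := 34078) (p' := 425) (by decide) hqE a3
  have a5 := s0 (r := 3842) (p := 425) (p' := 1570) (by decide) (hS 3842 (by decide)) a4
  have a6 := s0 (r := 2146) (p := 1570) (p' := 8006) (by decide) (hS 2146 (by decide)) a5
  have b1 := s0 (r := 31700) (p := 632) (p' := 52894) (by decide) hqE (hS 632 (by decide))
  have b2 := s0 (r := 2138) (p := 52894) (p' := 121423) (by decide) (hS 2138 (by decide)) b1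
  have b3 := s0 (r := 2146) (p := 121423) (p' := 61206) (by decide) (hS 2146 (by decide)) b2
  have b4 := s0 (r := 31700) (p := 61206) (p' := 31749) (by decide) hqE b3
  have b5 := s0 (r := 6522) (p := 31749) (p' := 31707) (by decide) (hS 6522 (by decide)) b4
  have b6 := s0 (r := 3841) (p := 31707) (p' := 31673) (by decide) (hS 3841 (by decide)) b5
  have hL : ∀ x ∈ gL, z2 * L x ∈ Fx hF := by
    intro x hx
    have hx' : okL x ∨ x = 7 ∨ x = 10 ∨ x = 11 := by
      have : x = 0 ∨ x = 1 ∨ x = 2 ∨ x = 3 ∨ x = 4 ∨ x = 5 ∨ x = 6 ∨ x = 7 ∨ x = 8 ∨ x = 9 ∨ x = 10 ∨ x = 11 := by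
        simpa [gL] using hx
      unfold okL
      omega
    rcases hx' with h | rfl | rfl | rfl
    · have h1 := z2_mul_C2F (letter_L h).1 (L_not_F2 hx)
      exact ⟨C2F_F2 h1, hC _ (C2F_le h1)⟩
    · have e : t (qL 8006) = L 7 := t_lbf (x := 7) (by decide)
      unfold XL at a6
      rwa [e] at a6
    · have e : z2 * L 10 = 1 := W2.z2_sq
      rw [e]
      exact one_mem _
    · have e : t (qL 31673) = L 11 := t_lbf (x := 11) (by decide)
      unfold XL at b6
      rwa [e] at b6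
  have hall : ∀ g : G2, (g ∈ F2 ∧ g ∈ Fx hF) ∨ (g ∉ F2 ∧ z2 * g ∈ Fx hF) := by
    intro g
    have hg : g ∈ Subgroup.closure (L '' {x | x ∈ gL}) := by
      rw [closure_L]
      trivial
    have hstep : ∀ x ∈ gL, ∀ y : G2, ((y ∈ F2 ∧ y ∈ Fx hF) ∨ (y ∉ F2 ∧ z2 * y ∈ Fx hF)) →
        ((L x * y ∈ F2 ∧ L x * y ∈ Fx hF) ∨ (L x * y ∉ F2 ∧ z2 * (L x * y) ∈ Fx hF)) := by
      intro x hx y hy
      have hnF := L_not_F2 hx
      rcases hy with ⟨h1, h2⟩ | ⟨h1, h2⟩
      · right
        refine ⟨fun k => hnF ((Subgroup.mul_mem_cancel_right _ h1).1 k), ?_⟩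
        rw [← mul_assoc]
        exact mul_mem (hL x hx) h2
      · left
        have e : L x * y = (z2 * L x)⁻¹ * (z2 * y) := by
          rw [mul_inv_rev, L_inv, inv_eq_of_mul_eq_one_left W2.z2_sq]
          calc L x * y = L x * (z2 * z2) * y := by rw [W2.z2_sq, mul_one]
            _ = _ := by group
        exact ⟨mul_F2 hnF h1, e ▸ mul_mem (inv_mem (hL x hx)) h2⟩
    induction hg using Subgroup.closure_induction_left with
    | one => exact Or.inl ⟨one_mem _, one_mem _⟩
    | mul_left x hx y _ ih =>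
      obtain ⟨n, hn, rfl⟩ := hx
      exact hstep n hn y ih
    | inv_mul_cancel x hx y _ ih =>
      obtain ⟨n, hn, rfl⟩ := hx
      rw [L_inv]
      exact hstep n hn y ih
  intro x hx
  rcases hall x with h | h
  · exact h.2.2
  · exact absurd hx h.1

end Fx

/-! ### The seven labels -/

theorem tau_eq : tau = Lw tauW := by
  rw [tauW, Lw_append', Lw_single, ← t_S (n := 0) (by decide)]
  rfl

/-- The action of an element on a product. -/
theorem conj_tt (x : G2) (a b : Fin NN) : x * (t a * t b) * x⁻¹ = t (φ x a) * t (φ x b) := by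
  rw [conj_mul2, t_conj, t_conj]

/-- An involution permuting the two labels commutes with the product. -/
theorem comm_of_pres {x : G2} {a b : Fin NN} (hc : Commute (t a) (t b))
    (h : (φ x a = a ∧ φ x b = b) ∨ (φ x a = b ∧ φ x b = a)) : Commute x (t a * t b) := by
  have h1 : x * (t a * t b) * x⁻¹ = t a * t b := by
    rw [conj_tt]
    rcases h with ⟨e1, e2⟩ | ⟨e1, e2⟩
    · rw [e1, e2]
    · rw [e1, e2]
      exact hc.symm.eq
  show x * (t a * t b) = (t a * t b) * x
  calc x * (t a * t b) = x * (t a * t b) * x⁻¹ * x := by group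
    _ = _ := by rw [h1]

/-- The product of two non-commuting transpositions. -/
theorem fix_pair {u w : G2} (hu : u ∈ D2) (hw : w ∈ D2) (hnc : ¬ Commute u w) {r1 r2 : Fin NN}
    (hc : Commute (t r1) (t r2)) (hne : r1 ≠ r2) (hy : Commute (u * w) (t r1 * t r2)) :
    (Commute u (t r1) ∧ Commute w (t r1)) ∧ (Commute u (t r2) ∧ Commute w (t r2)) := by
  have su := tt2.sq u hu
  have sw := tt2.sq w hw
  have hbr := (tt2.br u hu w hw).resolve_left hnc
  have hcube : (u * w) ^ 3 = 1 := by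
    calc (u * w) ^ 3 = (u * w * u) * (w * u * w) := by simp only [pow_succ, pow_zero, one_mul, mul_assoc]
      _ = (u * w * u) * (u * w * u) := by rw [hbr]
      _ = u * w * (u * u) * w * u := by group
      _ = u * (w * w) * u := by rw [su]; group
      _ = u * u := by rw [sw]; group
      _ = 1 := su
  set y := u * w with hyy
  clear_value y
  have e : t (φ y r1) * t (φ y r2) = t r1 * t r2 := by
    rw [← conj_tt, hy.eq]
    group
  have hc' : Commute (t (φ y r1)) (t (φ y r2)) := by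
    rw [← t_conj, ← t_conj]
    exact conj_comm2 hc
  have hn : t r1 ≠ t r2 := fun k => hne (t_inj k)
  have hfix : φ y r1 = r1 ∧ φ y r2 = r2 := by
    rcases pair_uniq (t_mem _) (t_mem _) (t_mem _) (t_mem _) hc hn hc' e with ⟨e1, e2⟩ | ⟨e1, e2⟩
    · exact ⟨t_inj e1, t_inj e2⟩
    · exfalso
      have e3 : φ y r1 = r2 := t_inj e1
      have e4 : φ y r2 = r1 := t_inj e2
      have h3 : φ (y ^ 3) r1 = r2 := by
        have : y ^ 3 = y * (y * y) := by simp only [pow_succ, pow_zero, one_mul, mul_assoc]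
        rw [this, phi_mul, phi_mul, e3, e4, e3]
      rw [hcube, map_one] at h3
      exact hne h3
  subst hyy
  exact ⟨comm_of_three hu hw (t_mem _) hnc ((comm_t_iff' _ _).2 hfix.1),
    comm_of_three hu hw (t_mem _) hnc ((comm_t_iff' _ _).2 hfix.2)⟩

theorem P_seed : ∀ n ∈ Pl, n ∈ seedL := by decide

theorem seed_of_pair : ∀ q ∈ Prs, q.1 ∈ seedL ∧ q.2 ∈ seedL := by decide

theorem P_in_pair : ∀ n ∈ Pl, ∃ q ∈ Prs, q.1 = n ∨ q.2 = n := by decide

/-- A label commuting with the labels of the data is one of seven. -/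
theorem mem_Sn_of {r : Fin NN} (h : ∀ n ∈ Pl, Commute (t (qL n)) (t r)) : (r : ℕ) ∈ Sn := by
  have hb : ∀ n ∈ Pl, (mW' (vL n)).testBit r = true := by
    intro n hn
    have hs := P_seed n hn
    have hl := seed_lt n hs
    have h1 : φ (Lw (vL n)) q0 = qL n := act_of hl.1 (Nat.eq_of_beq_eq_true (okD_beq (seed_ok n hs)))
    rw [mW'_iff]
    have h2 : yw' (vL n) = t (qL n) := by
      rw [← h1]
      exact (t_eq _).symm
    rw [h2]
    exact h n hn
  have h5 := congrArg (fun x => x.testBit r) P_cap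
  have e1 : ∀ P Q, Nat.land P Q = P &&& Q := fun _ _ => rfl
  simp only [e1, Nat.testBit_and] at h5
  rw [hb 8003 (by decide), hb 6525 (by decide), hb 5259 (by decide), hb 4133 (by decide), hb 2524 (by decide),
    hb 3168 (by decide), hb 3321 (by decide)] at h5
  exact (testBit_maskL _ _).1 h5.symm

/-- The classification of the commuting pairs of the seven labels. -/
def prB (T : List ℕ) (i j : ℕ) : Bool :=
  (Nat.beq (T.getD i 0) (Sn.getD i 0) && Nat.beq (T.getD j 0) (Sn.getD j 0)) ||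
    (Nat.beq (T.getD i 0) (Sn.getD j 0) && Nat.beq (T.getD j 0) (Sn.getD i 0))

theorem cls : ∀ i ∈ List.range 7, ∀ j ∈ List.range 7, i ≠ j → (cmT.getD i []).getD j false = true →
    prB tauT i j = true ∨ prB sT i j = true ∨ (i = 2 ∧ j = 3) ∨ (i = 3 ∧ j = 2) ∨ (i = 2 ∧ j = 4) ∨ (i = 4 ∧ j = 2) := by
  decide

theorem Sn_get {i : ℕ} (hi : i ∈ List.range 7) : Sn.getD i 0 ∈ Sn := by
  revert i
  decide

theorem act_tau {i : ℕ} (hi : i ∈ List.range 7) : φ tau (qL (Sn.getD i 0)) = qL (tauT.getD i 0) := by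
  have h := Nat.eq_of_beq_eq_true (tau_act i hi)
  rw [tau_eq]
  have hlt : tauT.getD i 0 < NN := by
    revert i
    decide
  apply act_of hlt
  rw [qL_val (S_lt _ (Sn_get hi))]
  exact h

theorem act_s {i : ℕ} (hi : i ∈ List.range 7) : φ sS (qL (Sn.getD i 0)) = qL (sT.getD i 0) := by
  have h := Nat.eq_of_beq_eq_true (s_act i hi)
  have hlt : sT.getD i 0 < NN := by
    revert i
    decide
  apply act_of hlt
  rw [qL_val (S_lt _ (Sn_get hi))]
  exact h

theorem comm_of_prB {x : G2} {T : List ℕ} (hact : ∀ i ∈ List.range 7, φ x (qL (Sn.getD i 0)) = qL (T.getD i 0))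
    {i j : ℕ} (hi : i ∈ List.range 7) (hj : j ∈ List.range 7)
    (hc : Commute (t (qL (Sn.getD i 0))) (t (qL (Sn.getD j 0)))) (h : prB T i j = true) :
    Commute x (t (qL (Sn.getD i 0)) * t (qL (Sn.getD j 0))) := by
  apply comm_of_pres hc
  simp only [prB, Bool.or_eq_true, Bool.and_eq_true] at h
  rcases h with ⟨h1, h2⟩ | ⟨h1, h2⟩
  · left
    rw [hact i hi, hact j hj, Nat.eq_of_beq_eq_true h1, Nat.eq_of_beq_eq_true h2]
    exact ⟨rfl, rfl⟩
  · right
    rw [hact i hi, hact j hj, Nat.eq_of_beq_eq_true h1, Nat.eq_of_beq_eq_true h2]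
    exact ⟨rfl, rfl⟩

theorem qH_ne_qE : t (qL 36463) ≠ t (qL 31700) := by
  intro k
  have h := t_inj k
  have h1 := congrArg (fun x : Fin NN => (x : ℕ)) h
  simp only [qL_val (n := 36463) (by norm_num), qL_val (n := 31700) (by norm_num)] at h1
  omega

theorem tau_tp : tau * tp * tau⁻¹ = t (qL 36463) * t (qL 11589) := by
  have h1 : φ tau (qL 31700) = qL 36463 := act_tau (i := 3) (by decide)
  have h2 : φ tau (qL 11589) = qL 11589 := act_tau (i := 2) (by decide)
  rw [tp, conj_tt, h1, h2]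

theorem s_tp : sS * tp * sS⁻¹ = t (qL 36463) * t (qL 11589) := by
  have h1 : φ sS (qL 31700) = qL 36463 := act_s (i := 3) (by decide)
  have h2 : φ sS (qL 11589) = qL 11589 := act_s (i := 2) (by decide)
  rw [tp, conj_tt, h1, h2]

theorem not_comm_of {x : G2} (h : x * tp * x⁻¹ = t (qL 36463) * t (qL 11589)) : ¬ Commute x tp := by
  intro hc
  have h1 : x * tp * x⁻¹ = tp := by
    rw [hc.eq]
    group
  rw [h1, tp] at h
  exact qH_ne_qE (mul_right_cancel h).symm

/-- The image of the involution. -/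
theorem image_tp {F : G2 → G2} (hF : PHom F2 F) (hC : ∀ x ∈ cF tau, F x = x) : F tp = tp ∨ F tp = tau * tp * tau⁻¹ := by
  have hPM : PM D2 2 tp := PM_two2 (t_mem _) (t_mem _) tp_comm_e1 (fun k => by
    have h := t_inj k
    have h1 := congrArg (fun x : Fin NN => (x : ℕ)) h
    simp only [qL_val (n := 31700) (by norm_num), qL_val (n := 11589) (by norm_num)] at h1
    omega)
  obtain ⟨a, b, ha, hb, hc, e⟩ := PM2_elim2 (claim_A hF tp_F2 hPM)
  obtain ⟨r1, rfl⟩ := mem_D2.1 ha
  obtain ⟨r2, rfl⟩ := mem_D2.1 hb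
  have hne : r1 ≠ r2 := by
    rintro rfl
    rw [t_sq] at e
    have h1 := hF.inj _ tp_F2 e.symm
    have h2 := congrArg (fun x => x * t (qL 11589)) h1
    simp only [tp, mul_assoc, t_sq, mul_one, one_mul] at h2
    have h3 := congrArg (fun x : Fin NN => (x : ℕ)) (t_inj h2)
    simp only [qL_val (n := 31700) (by norm_num), qL_val (n := 11589) (by norm_num)] at h3
    omega
  have hcomm : ∀ q ∈ Prs, (Commute (t (qL q.1)) (t r1) ∧ Commute (t (qL q.2)) (t r1)) ∧
      (Commute (t (qL q.1)) (t r2) ∧ Commute (t (qL q.2)) (t r2)) := by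
    intro q hq
    obtain ⟨h1, h2⟩ := seed_of_pair q hq
    have d1 := D3_seed h1
    have d2' := D3_seed h2
    have hnc : ¬ Commute (t (qL q.1)) (t (qL q.2)) := by
      intro k
      have h3 := (comm_t_iff' _ _).1 k
      rw [t_seed h1] at h3
      have h4 := P_ncomm q hq
      have h5 := congrArg (fun x : Fin NN => (x : ℕ)) h3
      have hl2 := (seed_lt _ h2).1
      simp only [φ_Lw, ← ptW_eq, qL_val hl2] at h5
      rw [h5] at h4
      simp at h4
    have hyC : t (qL q.1) * t (qL q.2) ∈ C2F := mem_C2F.2 ⟨mul_mem d1.mem d2'.mem, mul_F2 (t_not_F2 _) (t_not_F2 _)⟩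
    have hcT : ∀ n, n ∈ Pl → Commute (t (qL n)) tp := by
      intro n hn
      obtain ⟨h6, h7⟩ := P_comm n hn
      have hs := P_seed n hn
      refine Commute.mul_right ?_ ?_
      · apply (comm_t_iff' _ _).2
        rw [t_seed hs]
        apply act_of (by norm_num)
        rw [qL_val (n := 31700) (by norm_num)]
        exact Nat.eq_of_beq_eq_true h6
      · apply (comm_t_iff' _ _).2
        rw [t_seed hs]
        apply act_of (by norm_num)
        rw [qL_val (n := 11589) (by norm_num)]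
        exact Nat.eq_of_beq_eq_true h7
    have hPr : ∀ q ∈ Prs, q.1 ∈ Pl ∧ q.2 ∈ Pl := by decide
    have hP := hPr q hq
    have hyT : Commute (t (qL q.1) * t (qL q.2)) tp := (hcT _ hP.1).mul_left (hcT _ hP.2)
    have hy2 := PH_comm hF (C2F_F2 hyC) tp_F2 hyT
    rw [hC _ (C2F_le hyC), ← e] at hy2
    exact fix_pair (t_mem _) (t_mem _) hnc hc hne hy2
  have hall1 : ∀ n ∈ Pl, Commute (t (qL n)) (t r1) := by
    intro n hn
    obtain ⟨q, hq, h1⟩ := P_in_pair n hn
    rcases h1 with rfl | rfl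
    · exact (hcomm q hq).1.1
    · exact (hcomm q hq).1.2
  have hall2 : ∀ n ∈ Pl, Commute (t (qL n)) (t r2) := by
    intro n hn
    obtain ⟨q, hq, h1⟩ := P_in_pair n hn
    rcases h1 with rfl | rfl
    · exact (hcomm q hq).2.1
    · exact (hcomm q hq).2.2
  have hS1 := mem_Sn_of hall1
  have hS2 := mem_Sn_of hall2
  have idx : ∀ r : Fin NN, (r : ℕ) ∈ Sn → ∃ i ∈ List.range 7, r = qL (Sn.getD i 0) := by
    intro r hr
    have h1 : ∀ n ∈ Sn, ∃ i ∈ List.range 7, Sn.getD i 0 = n := by decide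
    obtain ⟨i, hi, h2⟩ := h1 _ hr
    refine ⟨i, hi, Fin.ext ?_⟩
    rw [qL_val (S_lt _ (Sn_get hi)), h2]
  obtain ⟨i, hi, rfl⟩ := idx r1 hS1
  obtain ⟨j, hj, rfl⟩ := idx r2 hS2
  have hij : i ≠ j := by
    rintro rfl
    exact hne rfl
  rcases cls i hi j hj hij (cm_S hi hj hc) with h | h | h | h | h | h
  · exfalso
    have h1 := comm_of_prB (fun i hi => act_tau hi) hi hj hc h
    rw [e] at h1
    have h2 := (PH_comm_iff hF tau_F2 tp_F2).1 (by rw [hC _ (C2F_le tau_C2F)]; exact h1)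
    exact not_comm_of tau_tp h2
  · exfalso
    have h1 := comm_of_prB (fun i hi => act_s hi) hi hj hc h
    rw [e] at h1
    have h2 := (PH_comm_iff hF sS_F2 tp_F2).1 (by rw [hC _ sS_cF]; exact h1)
    exact not_comm_of s_tp h2
  · obtain ⟨rfl, rfl⟩ := h
    left
    rw [← e]
    exact tp_comm_e1.symm.eq
  · obtain ⟨rfl, rfl⟩ := h
    left
    rw [← e]
    rfl
  · obtain ⟨rfl, rfl⟩ := h
    right
    rw [tau_tp, ← e]
    exact hc.eq
  · obtain ⟨rfl, rfl⟩ := h
    right
    rw [tau_tp, ← e]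
    rfl

theorem good_of_Ct {F : G2 → G2} (hF : PHom F2 F) (hC : ∀ x ∈ cF tau, F x = x) : Good F := by
  rcases image_tp hF hC with h | h
  · exact ⟨1, fun x hx => by rw [trivial_of hF hC h x hx]; group⟩
  · apply Good.of_conj (k := tau)
    have hF' := hF.conj (nF tau)
    have hC' : ∀ x ∈ cF tau, conjF tau F x = x := by
      intro x hx
      rw [conjF_apply, hC x hx, ← (mem_cF.1 hx).1.eq]
      group
    have h' : conjF tau F tp = tp := by
      rw [conjF_apply, h, tau_inv]
      calc tau * (tau * tp * tau) * tau = (tau * tau) * tp * (tau * tau) := by group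
        _ = tp := by rw [tau_sq]; group
    exact ⟨1, fun x hx => by rw [trivial_of hF' hC' h' x hx]; group⟩

/-! ### All automorphisms -/

theorem z2_s : z2 * sS * z2⁻¹ = sS * tau := by
  have h1 : sS * d2 * sS⁻¹ = z2 := by
    rw [conj_d2, sS_qz, t_q0]
  have h2 : z2 * sS = sS * d2 := by
    rw [← h1]
    group
  rw [h2, tau, inv_eq_of_mul_eq_one_left W2.z2_sq, comm_z2_d2.eq, mul_assoc]

theorem good_all {F : G2 → G2} (hF : PHom F2 F) : Good F := by
  obtain ⟨g, hg⟩ := exists_conj_tau hF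
  apply Good.of_conj (k := g)
  have hF1 := hF.conj (nF g)
  have ht1 : conjF g F tau = tau := hg
  obtain ⟨c, hc, hp⟩ := norm_psi hF1 ht1
  apply Good.of_conj (k := c⁻¹)
  have hF2' := hF1.conj (nF c⁻¹)
  have ht2 : conjF c⁻¹ (conjF g F) tau = tau := by
    rw [conjF_apply, ht1]
    have := cF_conj_tau (inv_mem hc)
    exact this
  have hfx := fix_C2F hF2' ht2 (fun u hu => hp u hu |> fun h => by
    rw [conjF_apply, inv_inv]
    exact h)
  rcases fix_sS hF2' hfx with hs | hs
  · exact good_of_Ct hF2' (fix_Ct hF2' hfx hs)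
  · apply Good.of_conj (k := z2)
    have hF3 := hF2'.conj (nF z2)
    have hz : ∀ u ∈ C2F, z2 * u * z2⁻¹ = u := by
      intro u hu
      rw [← (comm_z2_C2 (C2F_C2 hu)).eq]
      group
    have hfx3 : ∀ u ∈ C2F, conjF z2 (conjF c⁻¹ (conjF g F)) u = u := by
      intro u hu
      rw [conjF_apply, hfx u hu, hz u hu]
    have hs3 : conjF z2 (conjF c⁻¹ (conjF g F)) sS = sS := by
      rw [conjF_apply, hs, conj_mul2, z2_s, hz _ tau_C2F, mul_assoc, tau_sq, mul_one]
    exact good_of_Ct hF3 (fix_Ct hF3 hfx3 hs3)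

/-- Conjugation by `l`. -/
noncomputable def sgm : MulAut F2 := conjAut z2 (nF z2) (nF z2⁻¹ |> fun h x hx => by simpa using h x hx)

theorem sgm_not_inn : sgm ∉ Inn F2 := by
  rintro ⟨c, hc⟩
  have h1 : ∀ x ∈ F2, (c : G2) * x * (c : G2)⁻¹ = z2 * x * z2⁻¹ := by
    intro x hx
    have h2 := congrArg (fun f : MulAut F2 => ((f ⟨x, hx⟩ : F2) : G2)) hc
    exact h2
  set u := (c : G2)⁻¹ * z2 with hu
  have hnF : u ∉ F2 := fun k => z2_not_F2 ((Subgroup.mul_mem_cancel_left _ (inv_mem c.2)).1 k)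
  have hcm : ∀ x ∈ F2, u * x = x * u := by
    intro x hx
    have h3 := h1 x hx
    rw [hu]
    calc (c : G2)⁻¹ * z2 * x = (c : G2)⁻¹ * (z2 * x * z2⁻¹) * z2 := by group
      _ = (c : G2)⁻¹ * ((c : G2) * x * (c : G2)⁻¹) * z2 := by rw [h3]
      _ = x * ((c : G2)⁻¹ * z2) := by group
  have hcen : u ∈ Subgroup.center G2 := by
    refine Subgroup.mem_center_iff.2 (fun g => ?_)
    by_cases hg : g ∈ F2
    · exact (hcm g hg).symm
    · have h4 : u⁻¹ * g ∈ F2 := mul_F2 (fun k => hnF (by simpa using inv_mem k)) hg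
      have h5 := hcm _ h4
      have e : g = u * (u⁻¹ * g) := by group
      rw [e]
      calc u * (u⁻¹ * g) * u = u * ((u⁻¹ * g) * u) := by group
        _ = u * (u * (u⁻¹ * g)) := by rw [h5]
  rw [center2] at hcen
  exact hnF ((Subgroup.mem_bot.1 hcen).symm ▸ one_mem _)

/-- The outer automorphism group of the explicit `Fi₂₄′`. -/
theorem card_out_F2 : Nat.card (Out F2) = 2 := by
  apply card_out_eq_two sgm sgm_not_inn
  intro φ'
  obtain ⟨g, hg⟩ := good_all (pHom_ofAut φ')
  by_cases hgF : g ∈ F2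
  · left
    refine ⟨⟨g, hgF⟩, ?_⟩
    refine MulEquiv.ext fun x => Subtype.ext ?_
    have h1 := hg x.1 x.2
    rw [ofAut_apply φ' x.2] at h1
    simp only [Subtype.coe_eta] at h1
    rw [MulAut.conj_apply]
    exact h1.symm
  · right
    refine ⟨⟨z2 * g, mul_F2 z2_not_F2 hgF⟩, ?_⟩
    refine MulEquiv.ext fun x => Subtype.ext ?_
    have h1 := hg x.1 x.2
    rw [ofAut_apply φ' x.2] at h1
    simp only [Subtype.coe_eta] at h1
    rw [MulAut.conj_apply]
    show _ = z2 * (φ' x : G2) * z2⁻¹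
    rw [h1]
    simp only [Subgroup.coe_mul, InvMemClass.coe_inv]
    group

end Cfsg.Agent.Lib.Fischer.M24.O24
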