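/-
The presented group `Fi₂₄` is the explicit group; the outer automorphism group of its commutator subgroup.
-/
import Mathlib
import Cfsg.Agent.Lib.Fischer.M24.O24.Main
import Cfsg.Agent.Lib.Compute.PermOut
import Cfsg.Agent.S1698
import Cfsg.Agent.S1691

set_option autoImplicit false
set_option maxRecDepth 100000
set_option Elab.async false

namespace Cfsg.Agent.Lib.Fischer.M24.O24

open Cfsg Cfsg.Agent.Lib.Compute.BitNet Cfsg.Agent.Lib.Fischer.M24.Net Cfsg.Agent.Lib.Fischer.M24.Explicit
open Cfsg.Agent.Lib.Fischer.M24.A37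
open Cfsg.Spor

/-- The letter of a generator. -/
def gx : Fi24.Gen → ℕ
  | .l => 10
  | .k => 11
  | .a => 0
  | .b => 1
  | .c => 2
  | .d => 3
  | .e => 4
  | .f => 5
  | .g => 6
  | .j => 7
  | .h => 8
  | .i => 9

/-- All the generators. -/
def allG : List Fi24.Gen := [.l, .k, .a, .b, .c, .d, .e, .f, .g, .j, .h, .i]

theorem mem_allG (x : Fi24.Gen) : x ∈ allG := by
  cases x <;> decide

theorem cox_chk : ∀ x ∈ allG, ∀ y ∈ allG, ∀ p ∈ gL,
    Nat.beq (ptW (rp [gx x, gx y] (coxLabel Fi24.edges x y)) (lbl p)) (lbl p) = true := by decide +kernel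

/-- The word of the first further relation. -/
def w9 : List ℕ := rp [0, 1, 2, 3, 4, 5, 8] 9

theorem w9_chk : ∀ p ∈ gL, Nat.beq (ptW w9 (lbl p)) (ptW [10] (lbl p)) = true := by decide +kernel

/-- The word of the second further relation. -/
def w17 : List ℕ := rp [3, 2, 1, 0, 11, 10, 3, 4, 5, 6, 7, 3, 8, 9] 17

theorem w17_chk : ∀ p ∈ gL, Nat.beq (ptW w17 (lbl p)) (lbl p) = true := by decide +kernel

theorem Lw_of {u : List ℕ} (h : ∀ p ∈ gL, Nat.beq (ptW u (lbl p)) (lbl p) = true) : Lw u = 1 := by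
  have h1 : Lw u = Lw [] := by
    apply Lw_eq_pts
    intro x hx
    rw [← ptW_eq]
    exact Nat.eq_of_beq_eq_true (h x hx)
  rw [h1, Lw_nil]

/-- The images of the generators. -/
noncomputable def gI (x : Fi24.Gen) : G2 := L (gx x)

theorem rels_ok : ∀ r ∈ coxRelators Fi24.edges ∪ {r | r ∈ Fi24.extra}, FreeGroup.lift gI r = 1 := by
  intro r hr
  rcases hr with ⟨x, -, y, -, rfl⟩ | hr
  · rw [map_pow, map_mul, FreeGroup.lift_apply_of, FreeGroup.lift_apply_of]
    have h1 := Lw_of (fun p hp => cox_chk x (mem_allG x) y (mem_allG y) p hp)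
    rw [Lw_rp, Lw_two] at h1
    exact h1
  · have hr' : r ∈ Fi24.extra := hr
    simp only [Fi24.extra, List.mem_cons, List.not_mem_nil, or_false] at hr'
    rcases hr' with rfl | rfl
    · have h1 : Lw w9 = Lw [10] := by
        apply Lw_eq_pts
        intro x hx
        rw [← ptW_eq, ← ptW_eq]
        exact Nat.eq_of_beq_eq_true (w9_chk x hx)
      rw [w9, Lw_rp, Lw_single] at h1
      simp only [Lw_cons, Lw_nil, mul_one] at h1
      simp only [map_mul, map_inv, map_pow, FreeGroup.lift_apply_of, gI, gx]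
      rw [mul_inv_eq_one]
      simp only [mul_assoc]
      exact h1.symm
    · have h1 := Lw_of w17_chk
      rw [w17, Lw_rp] at h1
      simp only [Lw_cons, Lw_nil, mul_one] at h1
      simp only [map_mul, map_pow, FreeGroup.lift_apply_of, gI, gx]
      simp only [mul_assoc]
      exact h1

/-- The map from the presented group. -/
noncomputable def toG2 : Cfsg.Spor.Fi24 →* G2 := PresentedGroup.toGroup rels_ok

theorem toG2_surj : Function.Surjective toG2 := by
  rw [← MonoidHom.range_eq_top, eq_top_iff, ← closure_L, Subgroup.closure_le]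
  rintro _ ⟨n, hn, rfl⟩
  have hn' : n = 0 ∨ n = 1 ∨ n = 2 ∨ n = 3 ∨ n = 4 ∨ n = 5 ∨ n = 6 ∨ n = 7 ∨ n = 8 ∨ n = 9 ∨ n = 10 ∨ n = 11 := by
    simpa [gL] using hn
  have key : ∀ x : Fi24.Gen, L (gx x) ∈ toG2.range := fun x =>
    ⟨PresentedGroup.of x, PresentedGroup.toGroup.of rels_ok⟩
  rcases hn' with rfl | rfl | rfl | rfl | rfl | rfl | rfl | rfl | rfl | rfl | rfl | rfl
  exacts [key .a, key .b, key .c, key .d, key .e, key .f, key .g, key .j, key .h, key .i, key .l, key .k]

theorem card_pres : Nat.card Cfsg.Spor.Fi24 = Nat.card G2 := by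
  have h1 := Subgroup.card_mul_index (commutator Cfsg.Spor.Fi24)
  have h2 : Nat.card (commutator Cfsg.Spor.Fi24) = 1255205709190661721292800 := Cfsg.Agent.S1698.result.2
  rw [Cfsg.Agent.S1691.result, h2] at h1
  rw [← h1, card2]
  norm_num

theorem finite_pres : Finite Cfsg.Spor.Fi24 := by
  apply Nat.finite_of_card_ne_zero
  rw [card_pres, card2]
  norm_num

theorem toG2_bij : Function.Bijective toG2 := by
  haveI := finite_pres
  exact toG2_surj.bijective_of_nat_card_le card_pres.le

/-- The presented group is the explicit group. -/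
noncomputable def eqG : Cfsg.Spor.Fi24 ≃* G2 := MulEquiv.ofBijective toG2 toG2_bij

theorem commutator_le_F2 : commutator G2 ≤ F2 := by
  rw [commutator_def, Subgroup.commutator_le]
  intro g _ h _
  rw [commutatorElement_def]
  simp only [Subgroup.mul_mem_iff_of_index_two F2_index, Subgroup.inv_mem_iff]
  tauto

theorem map_comm : (commutator Cfsg.Spor.Fi24).map eqG.toMonoidHom = F2 := by
  have h1 : (commutator Cfsg.Spor.Fi24).map eqG.toMonoidHom = commutator G2 := by
    have e : (⊤ : Subgroup Cfsg.Spor.Fi24).map eqG.toMonoidHom = ⊤ :=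
      Subgroup.map_top_of_surjective eqG.toMonoidHom eqG.surjective
    rw [commutator_def, commutator_def, Subgroup.map_commutator, e]
  have h2 : ((commutator Cfsg.Spor.Fi24).map eqG.toMonoidHom).index = 2 := by
    exact (Subgroup.index_map_equiv _ eqG).trans Cfsg.Agent.S1691.result
  apply Subgroup.eq_of_le_of_card_ge (h1.le.trans commutator_le_F2)
  have h3 := Subgroup.card_mul_index ((commutator Cfsg.Spor.Fi24).map eqG.toMonoidHom)
  have h4 := Subgroup.card_mul_index F2
  rw [h2] at h3
  rw [F2_index] at h4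
  omega

/-- The outer automorphism group of the presented `Fi₂₄′`. -/
theorem card_out_pres : Nat.card (Out Cfsg.Spor.Fi24') = 2 := by
  rw [← card_out_F2]
  refine Cfsg.Agent.Lib.Compute.PermOut.card_out_congr ?_
  exact (eqG.subgroupMap (commutator Cfsg.Spor.Fi24)).trans (MulEquiv.subgroupCongr map_comm)

end Cfsg.Agent.Lib.Fischer.M24.O24
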